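import Mathlib

/-!
# P. Hall's extension of Frobenius' theorem to cosets of a normal subgroup

`hall_coset`: let `N` be a normal subgroup of the finite group `G`, `x` an element of `G` and `n` a
natural number.  Then `gcd (n, |N|)` divides the number of elements `y` of the coset `xN` with `y ^ n = 1`.
-/

set_option autoImplicit false

universe u

namespace Cfsg.Agent.H20.HallCoset

open Subgroup

/-- Counting lemma: a class function `f` on a finite group `K` such that `|C_K(k)|` divides `f k` for `k ≠ 1`: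
`|K|` divides the sum of `f` over `k ≠ 1`. -/
theorem dvd_sum_of_classes {K : Type u} [Group K] [Fintype K] [DecidableEq K] (f : K → ℕ)
    (hf : ∀ a b : K, IsConj a b → f a = f b)
    (h : ∀ k : K, k ≠ 1 → Nat.card ↥(centralizer ({k} : Set K)) ∣ f k) :
    Nat.card K ∣ ∑ k ∈ Finset.univ.filter (fun k : K => k ≠ 1), f k := by
  classical
  rw [← Finset.sum_fiberwise_of_maps_to (s := Finset.univ.filter (fun k : K => k ≠ 1))
    (t := (Finset.univ : Finset (ConjClasses K))) (g := fun k => ConjClasses.mk k)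
    (fun _ _ => Finset.mem_univ _)]
  refine Finset.dvd_sum fun c _ => ?_
  obtain ⟨k, rfl⟩ := ConjClasses.mk_surjective c
  by_cases hk : k = 1
  · have : (Finset.univ.filter (fun k : K => k ≠ 1)).filter (fun j => ConjClasses.mk j = ConjClasses.mk k) = ∅ := by
      ext j
      simp only [Finset.mem_filter, Finset.mem_univ, true_and, Finset.notMem_empty, iff_false, not_and]
      intro hj h1
      rw [ConjClasses.mk_eq_mk_iff_isConj, hk, isConj_one_left] at h1
      exact hj h1
    rw [this, Finset.sum_empty]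
    exact dvd_zero _
  · have h1 : ∑ j ∈ (Finset.univ.filter (fun k : K => k ≠ 1)).filter
        (fun j => ConjClasses.mk j = ConjClasses.mk k), f j =
        ∑ j ∈ (Finset.univ.filter (fun j : K => IsConj k j)), f k := by
      refine Finset.sum_congr ?_ ?_
      · ext j
        simp only [Finset.mem_filter, Finset.mem_univ, true_and]
        rw [ConjClasses.mk_eq_mk_iff_isConj]
        constructor
        · rintro ⟨_, h2⟩; exact h2.symm
        · intro h2
          refine ⟨?_, h2.symm⟩
          rintro rfl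
          rw [isConj_one_left] at h2
          exact hk h2
      · intro j hj
        rw [Finset.mem_filter] at hj
        exact (hf _ _ hj.2).symm
    rw [h1, Finset.sum_const, smul_eq_mul]
    have h2 : (Finset.univ.filter (fun j : K => IsConj k j)).card * Nat.card ↥(centralizer ({k} : Set K)) =
        Nat.card K := by
      have h3 : (Finset.univ.filter (fun j : K => IsConj k j)).card =
          (MulAction.stabilizer (ConjAct K) k).index := by
        rw [MulAction.index_stabilizer, ← Set.ncard_coe_finset]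
        congr 1
        ext j
        simp only [Finset.coe_filter, Finset.mem_univ, true_and, Set.mem_ofPred_eq]
        rw [ConjAct.mem_orbit_conjAct]
        exact ⟨fun h => h.symm, fun h => h.symm⟩
      rw [h3, Subgroup.nat_card_centralizer_nat_card_stabilizer, mul_comm]
      exact Subgroup.card_mul_index (MulAction.stabilizer (ConjAct K) k)
    obtain ⟨m, hm⟩ := h k hk
    rw [hm, ← mul_assoc, h2]
    exact dvd_mul_right _ _

/-- Burnside-type lemma: `K` acts by conjugation on the subset `X` and `|C_K(k)|` divides the number of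
fixed points of `k` for all `k ≠ 1` in `K`: then `|K|` divides `|X|`. -/
theorem burnside_dvd {Γ : Type u} [Group Γ] [Finite Γ] (K : Subgroup Γ) (X : Set Γ)
    (hX : ∀ k ∈ K, ∀ x ∈ X, k * x * k⁻¹ ∈ X)
    (h : ∀ k ∈ K, k ≠ 1 → Nat.card ↥(K ⊓ centralizer ({k} : Set Γ)) ∣
      Nat.card ↥(X ∩ (centralizer ({k} : Set Γ) : Set Γ))) : Nat.card K ∣ Nat.card X := by
  classical
  let _ : Fintype Γ := Fintype.ofFinite Γ
  let act : MulAction K X :=
    { smul := fun k x => ⟨k * x * (k : Γ)⁻¹, hX k k.2 x x.2⟩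
      one_smul := fun x => Subtype.ext (by change ((1 : K) : Γ) * x * ((1 : K) : Γ)⁻¹ = x; simp)
      mul_smul := fun a b x => Subtype.ext (by
        change ((a * b : K) : Γ) * x * ((a * b : K) : Γ)⁻¹ = (a : Γ) * ((b : Γ) * x * (b : Γ)⁻¹) * (a : Γ)⁻¹
        simp [mul_assoc]) }
  have hsm : ∀ (k : K) (x : X), ((k • x : X) : Γ) = k * x * (k : Γ)⁻¹ := fun _ _ => rfl
  have hsum := MulAction.sum_card_fixedBy_eq_card_orbits_mul_card_group K X
  set f : K → ℕ := fun k => Fintype.card (MulAction.fixedBy X k) with hf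
  have hmem : ∀ (k : K) (x : X), x ∈ MulAction.fixedBy X k ↔ (x : Γ) ∈ centralizer ({(k : Γ)} : Set Γ) := by
    intro k x
    rw [MulAction.mem_fixedBy, Subtype.ext_iff, hsm, mem_centralizer_singleton_iff, mul_inv_eq_iff_eq_mul]
    exact ⟨fun h => h.symm, fun h => h.symm⟩
  have hfc : ∀ k : K, f k = Nat.card ↥(X ∩ (centralizer ({(k : Γ)} : Set Γ) : Set Γ)) := by
    intro k
    rw [hf]
    simp only
    rw [← Nat.card_eq_fintype_card]
    refine Nat.card_congr ⟨fun x => ⟨x.1.1, x.1.2, (hmem k x.1).1 x.2⟩,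
      fun x => ⟨⟨x.1, x.2.1⟩, (hmem k ⟨x.1, x.2.1⟩).2 x.2.2⟩, fun _ => rfl, fun _ => rfl⟩
  have hcl : ∀ a b : K, IsConj a b → f a = f b := by
    intro a b hab
    obtain ⟨c, hc⟩ := isConj_iff.1 hab
    rw [hf]
    simp only
    rw [← Nat.card_eq_fintype_card, ← Nat.card_eq_fintype_card]
    refine Nat.card_congr ⟨fun x => ⟨c • x.1, ?_⟩, fun x => ⟨c⁻¹ • x.1, ?_⟩, ?_, ?_⟩
    · rw [MulAction.mem_fixedBy, ← hc, ← mul_smul]
      have : c * a * c⁻¹ * c = c * a := by group
      rw [this, mul_smul, (MulAction.mem_fixedBy).1 x.2]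
    · rw [MulAction.mem_fixedBy, ← mul_smul]
      have : a * c⁻¹ = c⁻¹ * b := by rw [← hc]; group
      rw [this, mul_smul, (MulAction.mem_fixedBy).1 x.2]
    · intro x; apply Subtype.ext; simp
    · intro x; apply Subtype.ext; simp
  have h1 := dvd_sum_of_classes f hcl (by
    intro k hk
    rw [hfc]
    have h2 : Nat.card ↥(centralizer ({k} : Set K)) = Nat.card ↥(K ⊓ centralizer ({(k : Γ)} : Set Γ)) := by
      exact Nat.card_congr ⟨fun x => ⟨x.1.1, x.1.2, mem_centralizer_singleton_iff.2
          (congrArg Subtype.val (mem_centralizer_singleton_iff.1 x.2))⟩, fun x => ⟨⟨x.1, x.2.1⟩,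
          mem_centralizer_singleton_iff.2 (Subtype.ext (mem_centralizer_singleton_iff.1 x.2.2))⟩,
          fun _ => rfl, fun _ => rfl⟩
    rw [h2]
    exact h k k.2 (fun h3 => hk (Subtype.ext h3)))
  have h2 : ∑ k : K, f k = f 1 + ∑ k ∈ Finset.univ.filter (fun k : K => k ≠ 1), f k := by
    rw [← Finset.sum_filter_add_sum_filter_not Finset.univ (fun k : K => k = 1)]
    congr 1
    rw [Finset.filter_eq' Finset.univ (1 : K), if_pos (Finset.mem_univ _), Finset.sum_singleton]
  have h3 : f 1 = Nat.card X := by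
    rw [hfc]
    refine Nat.card_congr ⟨fun x => ⟨x.1, x.2.1⟩, fun x => ⟨x.1, x.2, ?_⟩, fun _ => rfl, fun _ => rfl⟩
    rw [SetLike.mem_coe, mem_centralizer_singleton_iff]
    simp
  have h4 : Nat.card K ∣ ∑ k : K, f k := by
    rw [hf]
    simp only
    rw [hsum, Nat.card_eq_fintype_card]
    exact dvd_mul_left _ _
  rw [h2, h3] at h4
  exact (Nat.dvd_add_left h1).1 h4

/-- the solutions of `y ^ n = 1` in the coset `xN` -/
def Sol {G : Type u} [Group G] (N : Subgroup G) (x : G) (n : ℕ) : Set G := {y : G | x⁻¹ * y ∈ N ∧ y ^ n = 1}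

/-- the inductive condition on the normal subgroup `Z` -/
def Good {G : Type u} [Group G] (N : Subgroup G) (p m : ℕ) (Z : Subgroup G) : Prop :=
  Z ≤ N ∧ Z.Normal ∧ Nat.card Z = p ^ m ∧ ∀ y : G, ∀ u ∈ Z, (y * u) ^ (p ^ m) = y ^ (p ^ m)

theorem good_bot {G : Type u} [Group G] (N : Subgroup G) (p : ℕ) : Good N p 0 ⊥ := by
  refine ⟨bot_le, inferInstance, by simp, ?_⟩
  intro y u hu
  rw [mem_bot] at hu
  rw [hu, mul_one]

/-- one step up -/
theorem good_succ {G : Type u} [Group G] [Finite G] {N : Subgroup G} [N.Normal] {p m : ℕ} [Fact p.Prime]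
    {Z : Subgroup G} (hZ : Good N p m Z) {k : G} (hkN : k ∈ N) (hk : k ∉ Z) (hkp : k ^ p ∈ Z)
    (hc : ∀ g : G, g * k * g⁻¹ * k⁻¹ ∈ Z) : Good N p (m + 1) (Z ⊔ zpowers k) := by
  obtain ⟨h1, h2, h3, h4⟩ := hZ
  have hn : (Z ⊔ zpowers k).Normal := by
    refine ⟨fun u hu g => ?_⟩
    rw [← SetLike.mem_coe, normal_mul] at hu
    obtain ⟨z, hz, w, hw, rfl⟩ := hu
    obtain ⟨i, rfl⟩ := mem_zpowers_iff.1 hw
    have e : g * (z * k ^ i) * g⁻¹ = (g * z * g⁻¹) * (g * k ^ i * g⁻¹) := by group
    simp only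
    rw [e]
    refine mul_mem (mem_sup_left (h2.conj_mem z hz g)) ?_
    have e2 : g * k ^ i * g⁻¹ = (g * k * g⁻¹) ^ i := by rw [conj_zpow]
    rw [e2]
    apply zpow_mem
    have e3 : g * k * g⁻¹ = (g * k * g⁻¹ * k⁻¹) * k := by group
    rw [e3]
    exact mul_mem (mem_sup_left (hc g)) (mem_sup_right (mem_zpowers k))
  refine ⟨sup_le h1 (by rw [zpowers_le]; exact hkN), hn, ?_, ?_⟩
  · -- the order
    have e1 : Nat.card ↥(Z ⊔ zpowers k) = Nat.card Z * Z.relIndex (Z ⊔ zpowers k) := by
      rw [← relIndex_bot_left Z, relIndex_mul_relIndex _ _ _ bot_le le_sup_left, relIndex_bot_left]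
    have e2 : Z.relIndex (Z ⊔ zpowers k) = Nat.card ((zpowers k).map (QuotientGroup.mk' Z)) := by
      rw [relIndex_sup_left, ← relIndex_ker, QuotientGroup.ker_mk']
    have e3 : (zpowers k).map (QuotientGroup.mk' Z) = zpowers (QuotientGroup.mk' Z k) := by
      rw [MonoidHom.map_zpowers]
    have e4 : orderOf (QuotientGroup.mk' Z k) = p := by
      apply orderOf_eq_prime
      · rw [← map_pow]
        exact (QuotientGroup.eq_one_iff _).2 hkp
      · intro h
        exact hk ((QuotientGroup.eq_one_iff _).1 h)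
    rw [e1, e2, e3, Nat.card_zpowers, e4, h3, pow_succ]
  · intro y u hu
    rw [← SetLike.mem_coe, normal_mul] at hu
    obtain ⟨z, hz, w, hw, rfl⟩ := hu
    obtain ⟨i, rfl⟩ := mem_zpowers_iff.1 hw
    have h5 : QuotientGroup.mk' Z ((y * (z * k ^ i)) ^ p) = QuotientGroup.mk' Z (y ^ p) := by
      rw [map_pow, map_mul, map_mul, map_pow]
      have hz1 : QuotientGroup.mk' Z z = 1 := (QuotientGroup.eq_one_iff _).2 hz
      have hk1 : (QuotientGroup.mk' Z k) ^ p = 1 := by
        rw [← map_pow]; exact (QuotientGroup.eq_one_iff _).2 hkp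
      have hcm : Commute (QuotientGroup.mk' Z y) (QuotientGroup.mk' Z k) := by
        have h6 : QuotientGroup.mk' Z (y * k * y⁻¹ * k⁻¹) = 1 := (QuotientGroup.eq_one_iff _).2 (hc y)
        rw [map_mul, map_mul, map_mul, map_inv, map_inv] at h6
        rw [mul_inv_eq_one, mul_inv_eq_iff_eq_mul] at h6
        exact h6
      rw [hz1, one_mul, map_zpow, (hcm.zpow_right i).mul_pow, ← zpow_natCast, ← zpow_natCast, ← zpow_mul, mul_comm i,
        zpow_mul, zpow_natCast (QuotientGroup.mk' Z k), hk1, one_zpow, mul_one]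
    have h7 : (y ^ p)⁻¹ * (y * (z * k ^ i)) ^ p ∈ Z := QuotientGroup.eq.1 h5.symm
    have h8 := h4 (y ^ p) _ h7
    rw [mul_inv_cancel_left] at h8
    rw [pow_succ', pow_mul, pow_mul, h8]

/-- A `Z`-saturated set. -/
theorem card_preimage {G : Type u} [Group G] (Z : Subgroup G) [Z.Normal] (T : Set (G ⧸ Z)) :
    Nat.card ↥((QuotientGroup.mk' Z) ⁻¹' T) = Nat.card Z * Nat.card T := by
  rw [← Nat.card_prod]
  exact Nat.card_congr (QuotientGroup.preimageMkEquivSubgroupProdSet Z T)

theorem main (M : ℕ) : ∀ (G : Type u) [Group G] [Finite G], Nat.card G ≤ M → ∀ (N : Subgroup G) [N.Normal]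
    (x : G) (n p b : ℕ) [Fact p.Prime], p ^ b ∣ Nat.card N → p ^ b ∣ n → p ^ b ∣ Nat.card (Sol N x n) := by
  induction M with
  | zero =>
    intro G _ _ hM
    exact absurd (Nat.card_pos (α := G)) (by omega)
  | succ M ih =>
    intro G _ _ hM N _ x n p b _ hbN hbn
    classical
    have hp : p.Prime := Fact.out
    -- the maximal `m`
    have hex : ∃ m ≤ b, (∃ Z, Good N p m Z) ∧ (m < b → ∀ Z, ¬ Good N p (m + 1) Z) := by
      by_contra hcon
      push Not at hcon
      have : ∀ m ≤ b, ∃ Z, Good N p m Z := by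
        intro m
        induction m with
        | zero => intro _; exact ⟨⊥, good_bot N p⟩
        | succ m ihm =>
          intro hm
          obtain ⟨_, h2⟩ := hcon m (by omega) (ihm (by omega))
          exact h2
      exact absurd (hcon b le_rfl (this b le_rfl)).1 (lt_irrefl b)
    obtain ⟨m, hmb, ⟨Z, hZ⟩, hmax⟩ := hex
    obtain ⟨hZN, hZn, hZc, hZp⟩ := hZ
    -- `Sol` is `Z`-saturated
    have hpn : p ^ m ∣ n := (pow_dvd_pow p hmb).trans hbn
    have hpow : ∀ y : G, ∀ u ∈ Z, (y * u) ^ n = y ^ n := by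
      intro y u hu
      obtain ⟨c, rfl⟩ := hpn
      rw [pow_mul, pow_mul, hZp y u hu]
    have hsat : ∀ y : G, ∀ u ∈ Z, y ∈ Sol N x n → y * u ∈ Sol N x n := by
      rintro y u hu ⟨h1, h2⟩
      refine ⟨?_, by rw [hpow y u hu, h2]⟩
      rw [← mul_assoc]
      exact mul_mem h1 (hZN hu)
    set X : Set (G ⧸ Z) := (QuotientGroup.mk' Z) '' (Sol N x n) with hXdef
    have hpre : ∀ y : G, QuotientGroup.mk' Z y ∈ X ↔ y ∈ Sol N x n := by
      intro y
      constructor
      · rintro ⟨y', hy', he⟩
        have h1 : y'⁻¹ * y ∈ Z := QuotientGroup.eq.1 he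
        have := hsat y' _ h1 hy'
        rwa [mul_inv_cancel_left] at this
      · intro h; exact ⟨y, h, rfl⟩
    have hcardΩ : Nat.card (Sol N x n) = p ^ m * Nat.card X := by
      rw [← hZc, ← card_preimage Z X]
      exact Nat.card_congr (Equiv.setCongr (Set.ext fun y => (hpre y).symm))
    rcases hmb.eq_or_lt with hmb' | hmb'
    · rw [hcardΩ, hmb']; exact dvd_mul_right _ _
    -- the `p`-subgroup `K`
    obtain ⟨K0, hK0c, hZK0⟩ := Sylow.exists_subgroup_card_pow_prime_le p hbN (Z.subgroupOf N)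
      (n := m) (by rw [← hZc]; exact Nat.card_congr (subgroupOfEquivOfLe hZN).toEquiv) hmb'.le
    set K : Subgroup G := K0.map N.subtype with hKdef
    have hKN : K ≤ N := map_subtype_le K0
    have hKc : Nat.card K = p ^ b := by
      rw [← hK0c]; exact (Nat.card_congr (K0.equivMapOfInjective _ N.subtype_injective).toEquiv).symm
    have hZK : Z ≤ K := by
      intro z hz
      exact ⟨⟨z, hZN hz⟩, hZK0 (mem_subgroupOf.2 hz), rfl⟩
    set Kb : Subgroup (G ⧸ Z) := K.map (QuotientGroup.mk' Z) with hKb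
    have hcardmap : ∀ L : Subgroup G, Z ≤ L → Nat.card L = p ^ m * Nat.card (L.map (QuotientGroup.mk' Z)) := by
      intro L hL
      rw [← relIndex_ker, QuotientGroup.ker_mk', ← hZc, ← relIndex_bot_left Z, relIndex_mul_relIndex _ _ _ bot_le hL,
        relIndex_bot_left]
    have key : Nat.card Kb ∣ Nat.card X := by
      apply burnside_dvd
      · rintro _ ⟨k, hk, rfl⟩ _ ⟨y, ⟨hy1, hy2⟩, rfl⟩
        refine ⟨k * y * k⁻¹, ⟨?_, ?_⟩, by simp⟩
        · have hN : N.Normal := inferInstance
          have h1 : x⁻¹ * (k * y * k⁻¹) = (x⁻¹ * k * x) * ((x⁻¹ * y) * k⁻¹) := by group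
          rw [h1]
          refine mul_mem ?_ (mul_mem hy1 (N.inv_mem (hKN hk)))
          have := hN.conj_mem k (hKN hk) x⁻¹
          rwa [inv_inv] at this
        · rw [conj_pow, hy2]; group
      · rintro _ ⟨k, hk, rfl⟩ hk1
        have hkZ : k ∉ Z := fun h => hk1 ((QuotientGroup.eq_one_iff _).2 h)
        set kb := QuotientGroup.mk' Z k with hkb
        set C : Subgroup G := (centralizer ({kb} : Set (G ⧸ Z))).comap (QuotientGroup.mk' Z) with hC
        have hZC : Z ≤ C := by
          intro z hz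
          have h1 : QuotientGroup.mk' Z z = 1 := (QuotientGroup.eq_one_iff _).2 hz
          rw [hC, mem_comap, h1]
          exact one_mem _
        -- `C` is proper
        have hCt : C ≠ ⊤ := by
          intro hCt
          -- a power of `k` of order `p` modulo `Z`
          have hcen : ∀ g : G, g * k * g⁻¹ * k⁻¹ ∈ Z := by
            intro g
            have h1 : g ∈ C := hCt ▸ mem_top g
            rw [hC, mem_comap, mem_centralizer_singleton_iff] at h1
            apply (QuotientGroup.eq_one_iff _).1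
            change QuotientGroup.mk' Z (g * k * g⁻¹ * k⁻¹) = 1
            rw [map_mul, map_mul, map_mul, map_inv, map_inv, ← hkb, h1]
            group
          have hkord : ∃ j : ℕ, k ^ p ^ j ∈ Z := by
            refine ⟨b, ?_⟩
            have h2 : k ^ Nat.card K = 1 := by
              have := pow_card_eq_one' (x := (⟨k, hk⟩ : K))
              exact congrArg Subtype.val this
            rw [← hKc, h2]
            exact one_mem _
          have hj := Nat.find_spec hkord
          have hj0 : Nat.find hkord ≠ 0 := by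
            intro h0
            rw [h0, pow_zero, pow_one] at hj
            exact hkZ hj
          obtain ⟨i, hi⟩ := Nat.exists_eq_succ_of_ne_zero hj0
          have hi' : k ^ p ^ i ∉ Z := Nat.find_min hkord (by omega)
          refine hmax hmb' _ (good_succ ⟨hZN, hZn, hZc, hZp⟩ (k := k ^ p ^ i) (pow_mem (hKN hk) _) hi' ?_ ?_)
          · rw [← pow_mul, ← pow_succ, ← Nat.succ_eq_add_one, ← hi]; exact hj
          · intro g
            have h3 : QuotientGroup.mk' Z (g * k ^ p ^ i * g⁻¹ * (k ^ p ^ i)⁻¹) = 1 := by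
              have h4 : Commute (QuotientGroup.mk' Z g) (QuotientGroup.mk' Z k) := by
                have h6 : QuotientGroup.mk' Z (g * k * g⁻¹ * k⁻¹) = 1 := (QuotientGroup.eq_one_iff _).2 (hcen g)
                rw [map_mul, map_mul, map_mul, map_inv, map_inv] at h6
                rw [mul_inv_eq_one, mul_inv_eq_iff_eq_mul] at h6
                exact h6
              rw [map_mul, map_mul, map_mul, map_inv, map_inv, map_pow, (h4.pow_right (p ^ i)).eq]
              group
            exact (QuotientGroup.eq_one_iff _).1 h3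
        have hCcard : Nat.card C ≤ M := by
          have h1 : Nat.card C < Nat.card G := by
            refine lt_of_le_of_ne (Subgroup.card_le_card_group C) ?_
            intro h2
            exact hCt (Subgroup.eq_top_of_card_eq C h2)
          omega
        -- left side
        have hL : p ^ m * Nat.card ↥(Kb ⊓ centralizer ({kb} : Set (G ⧸ Z))) = Nat.card ↥(K ⊓ C) := by
          rw [hcardmap (K ⊓ C) (le_inf hZK hZC)]
          congr 1
          refine Nat.card_congr (Equiv.setCongr (Set.ext fun q => ?_))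
          constructor
          · rintro ⟨⟨y, hy, rfl⟩, hq⟩
            exact ⟨y, ⟨hy, hq⟩, rfl⟩
          · rintro ⟨y, ⟨hy1, hy2⟩, rfl⟩
            exact ⟨⟨y, hy1, rfl⟩, hy2⟩
        have hR : p ^ m * Nat.card ↥(X ∩ (centralizer ({kb} : Set (G ⧸ Z)) : Set (G ⧸ Z))) =
            Nat.card ↥(Sol N x n ∩ (C : Set G)) := by
          rw [← hZc, ← card_preimage Z]
          refine Nat.card_congr (Equiv.setCongr (Set.ext fun y => ?_))
          constructor
          · rintro ⟨h1, h2⟩; exact ⟨(hpre y).1 h1, h2⟩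
          · rintro ⟨h1, h2⟩; exact ⟨(hpre y).2 h1, h2⟩
        have hdvd : Nat.card ↥(K ⊓ C) ∣ Nat.card ↥(Sol N x n ∩ (C : Set G)) := by
          rcases (Sol N x n ∩ (C : Set G)).eq_empty_or_nonempty with he | ⟨y0, hy0, hy0C⟩
          · rw [he]; simp
          · have hKCd : Nat.card ↥(K ⊓ C) ∣ p ^ b := by
              rw [← hKc]; exact Subgroup.card_dvd_of_le inf_le_left
            obtain ⟨t, htb, ht⟩ := (Nat.dvd_prime_pow hp).1 hKCd
            rw [ht]
            have h1 := ih C hCcard (N.subgroupOf C) ⟨y0, hy0C⟩ n p t (by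
              rw [← ht]
              have e : Nat.card (N.subgroupOf C) = Nat.card ↥(N ⊓ C) := by
                refine Nat.card_congr ⟨fun x => ⟨x.1.1, x.2, x.1.2⟩, fun x => ⟨⟨x.1, x.2.2⟩, x.2.1⟩, fun _ => rfl,
                  fun _ => rfl⟩
              rw [e]
              exact Subgroup.card_dvd_of_le (inf_le_inf_right C hKN)) ((pow_dvd_pow p htb).trans hbn)
            have e : Nat.card (Sol (N.subgroupOf C) ⟨y0, hy0C⟩ n) = Nat.card ↥(Sol N x n ∩ (C : Set G)) := by
              refine Nat.card_congr ⟨fun y => ⟨y.1.1, ⟨?_, ?_⟩, y.1.2⟩, fun y => ⟨⟨y.1, y.2.2⟩, ?_, ?_⟩,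
                fun _ => rfl, fun _ => rfl⟩
              · have h2 : y0⁻¹ * (y.1 : G) ∈ N := y.2.1
                have h3 : x⁻¹ * (y.1 : G) = (x⁻¹ * y0) * (y0⁻¹ * y.1) := by group
                rw [h3]
                exact mul_mem hy0.1 h2
              · exact congrArg Subtype.val y.2.2
              · rw [mem_subgroupOf]
                change y0⁻¹ * (y.1 : G) ∈ N
                have h3 : y0⁻¹ * (y.1 : G) = (x⁻¹ * y0)⁻¹ * (x⁻¹ * y.1) := by group
                rw [h3]
                exact mul_mem (N.inv_mem hy0.1) y.2.1.1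
              · exact Subtype.ext y.2.1.2
            rwa [e] at h1
        rw [← hL, ← hR] at hdvd
        exact Nat.dvd_of_mul_dvd_mul_left (pow_pos hp.pos m) hdvd
    have hKbc := hcardmap K hZK
    rw [hKc] at hKbc
    rw [hcardΩ, hKbc]
    exact Nat.mul_dvd_mul_left _ key

/-- **P. Hall**: the number of solutions of `y ^ n = 1` in the coset `xN` of the normal subgroup `N` is
divisible by `gcd (n, |N|)`. -/
theorem hall_coset {G : Type u} [Group G] [Finite G] (N : Subgroup G) [N.Normal] (x : G) (n : ℕ) :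
    Nat.gcd n (Nat.card N) ∣ Nat.card {y : G // x⁻¹ * y ∈ N ∧ y ^ n = 1} := by
  rw [Nat.dvd_iff_prime_pow_dvd_dvd]
  intro p k hp hd
  have : Fact p.Prime := ⟨hp⟩
  exact main (Nat.card G) G le_rfl N x n p k (hd.trans (Nat.gcd_dvd_right _ _)) (hd.trans (Nat.gcd_dvd_left _ _))

end Cfsg.Agent.H20.HallCoset
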