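import Mathlib
import Cfsg.Agent.H20.HallCoset

/-!
# Frobenius' conjecture: reduction to simple groups

`cnt G n` = number of solutions of `x ^ n = 1` in `G`.

* `reduce`: if `cnt G n = n`, `n ∣ |G|`, `N ⊴ G` and `m = gcd (n, |N|)`, then `cnt N m = m` and
  `cnt (G ⧸ N) (n / m) = n / m`.
* `main`: if every composition factor of `G` satisfies Frobenius' conjecture, then so does `G`.
-/

set_option autoImplicit false

universe u

namespace Cfsg.Agent.H20.FrobReduce

open Subgroup Cfsg.Agent.H20.HallCoset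

/-- number of solutions of `x ^ n = 1` -/
noncomputable def cnt (G : Type u) [Group G] (n : ℕ) : ℕ := Nat.card {x : G // x ^ n = 1}

/-- number of solutions in a coset -/
noncomputable def cc {G : Type u} [Group G] (N : Subgroup G) (x : G) (n : ℕ) : ℕ :=
  Nat.card {y : G // x⁻¹ * y ∈ N ∧ y ^ n = 1}

theorem gcd_dvd_cnt (G : Type u) [Group G] [Finite G] (n : ℕ) : Nat.gcd n (Nat.card G) ∣ cnt G n := by
  have h := hall_coset (⊤ : Subgroup G) 1 n
  rw [Subgroup.card_top] at h
  have e : Nat.card {y : G // (1 : G)⁻¹ * y ∈ (⊤ : Subgroup G) ∧ y ^ n = 1} = cnt G n :=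
    Nat.card_congr ⟨fun y => ⟨y.1, y.2.2⟩, fun y => ⟨y.1, mem_top _, y.2⟩, fun _ => rfl, fun _ => rfl⟩
  rwa [e] at h

theorem dvd_cnt {G : Type u} [Group G] [Finite G] {n : ℕ} (h : n ∣ Nat.card G) : n ∣ cnt G n := by
  have := gcd_dvd_cnt G n
  rwa [Nat.gcd_eq_left h] at this

theorem cnt_pos (G : Type u) [Group G] [Finite G] (n : ℕ) : 0 < cnt G n := by
  have : Nonempty {x : G // x ^ n = 1} := ⟨⟨1, one_pow n⟩⟩
  exact Nat.card_pos

theorem le_cnt {G : Type u} [Group G] [Finite G] {n : ℕ} (h : n ∣ Nat.card G) : n ≤ cnt G n :=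
  Nat.le_of_dvd (cnt_pos G n) (dvd_cnt h)

/-- An element of a coset whose order involves only primes dividing the order of the coset. -/
theorem exists_good_rep {G : Type u} [Group G] [Finite G] (N : Subgroup G) [N.Normal] (q : G ⧸ N) :
    ∃ y : G, QuotientGroup.mk' N y = q ∧ ∀ p : ℕ, p.Prime → p ∣ orderOf y → p ∣ orderOf q := by
  classical
  have hex : ∃ d : ℕ, ∃ y : G, QuotientGroup.mk' N y = q ∧ orderOf y = d := by
    obtain ⟨y, hy⟩ := QuotientGroup.mk'_surjective N q
    exact ⟨_, y, hy, rfl⟩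
  obtain ⟨y, hy, hd⟩ := Nat.find_spec hex
  refine ⟨y, hy, fun p hp hpo => ?_⟩
  by_contra hpq
  have hoy : 0 < orderOf y := orderOf_pos y
  obtain ⟨a, o', hpo', ho⟩ := Nat.exists_eq_pow_mul_and_not_dvd hoy.ne' p hp.ne_one
  have ha : a ≠ 0 := by
    rintro rfl
    rw [pow_zero, one_mul] at ho
    exact hpo' (ho ▸ hpo)
  have hcop : Nat.Coprime (p ^ a) o' := Nat.Coprime.pow_left a ((Nat.Prime.coprime_iff_not_dvd hp).2 hpo')
  obtain ⟨j, hj1, hj2⟩ := Nat.chineseRemainder hcop 0 1
  have hqd : orderOf q ∣ o' := by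
    have h1 : orderOf q ∣ orderOf y := by rw [← hy]; exact orderOf_map_dvd _ _
    rw [ho] at h1
    refine Nat.Coprime.dvd_of_dvd_mul_left ?_ h1
    exact Nat.Coprime.pow_right a ((Nat.Prime.coprime_iff_not_dvd hp).2 hpq).symm
  have hyj : QuotientGroup.mk' N (y ^ j) = q := by
    rw [map_pow, hy]
    have h2 : j ≡ 1 [MOD orderOf q] := hj2.of_dvd hqd
    have h3 := pow_eq_pow_iff_modEq.2 h2
    rw [h3, pow_one]
  have hord : orderOf (y ^ j) ∣ o' := by
    apply orderOf_dvd_of_pow_eq_one
    rw [← pow_mul]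
    apply orderOf_dvd_iff_pow_eq_one.1
    rw [ho]
    exact Nat.mul_dvd_mul ((Nat.modEq_zero_iff_dvd).1 hj1) dvd_rfl
  have hlt : orderOf (y ^ j) < orderOf y := by
    have ho0 : 0 < o' := Nat.pos_of_ne_zero (by rintro rfl; rw [mul_zero] at ho; omega)
    have h4 : 1 < p ^ a := Nat.one_lt_pow ha hp.one_lt
    calc orderOf (y ^ j) ≤ o' := Nat.le_of_dvd ho0 hord
      _ < p ^ a * o' := by nlinarith
      _ = orderOf y := ho.symm
  have := Nat.find_min' hex ⟨y ^ j, hyj, rfl⟩
  omega

/-- arithmetic: `o ∣ k * s`, the primes of `o` divide `k`, `k ∣ n / gcd (n, s)`: then `o ∣ n`. -/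
theorem arith {n s o k : ℕ} (hn : 0 < n) (hs : 0 < s) (ho : 0 < o) (hk : 0 < k) (hos : o ∣ k * s)
    (hp : ∀ p : ℕ, p.Prime → p ∣ o → p ∣ k) (hkn : k ∣ n / Nat.gcd n s) : o ∣ n := by
  rw [← Nat.factorization_prime_le_iff_dvd ho.ne' hn.ne']
  intro p hpp
  by_cases hpo : p ∣ o
  · have h1 := (Nat.factorization_prime_le_iff_dvd ho.ne' (mul_pos hk hs).ne').2 hos p hpp
    rw [Nat.factorization_mul hk.ne' hs.ne', Finsupp.add_apply] at h1
    have hg : Nat.gcd n s ∣ n := Nat.gcd_dvd_left _ _
    have hng : 0 < n / Nat.gcd n s := Nat.div_pos (Nat.le_of_dvd hn hg) (Nat.gcd_pos_of_pos_left _ hn)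
    have h2 := (Nat.factorization_prime_le_iff_dvd hk.ne' hng.ne').2 hkn p hpp
    have h3 : 1 ≤ k.factorization p := (Nat.Prime.dvd_iff_one_le_factorization hpp hk.ne').1 (hp p hpp hpo)
    rw [Nat.factorization_div hg, Finsupp.tsub_apply, Nat.factorization_gcd hn.ne' hs.ne', Finsupp.inf_apply] at h2
    have h4 : min (n.factorization p) (s.factorization p) ≤ n.factorization p := min_le_left _ _
    rcases le_total (n.factorization p) (s.factorization p) with h5 | h5
    · rw [min_eq_left h5] at h2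
      omega
    · rw [min_eq_right h5] at h2
      omega
  · rw [Nat.factorization_eq_zero_of_not_dvd hpo]
    exact Nat.zero_le _

/-- Every coset whose `n / gcd (n, |N|)`-th power is trivial contains a solution of `y ^ n = 1`. -/
theorem exists_sol {G : Type u} [Group G] [Finite G] (N : Subgroup G) [N.Normal] {n : ℕ} (hn : 0 < n)
    (q : G ⧸ N) (hq : q ^ (n / Nat.gcd n (Nat.card N)) = 1) : ∃ y : G, QuotientGroup.mk' N y = q ∧ y ^ n = 1 := by
  obtain ⟨y, hy, hpr⟩ := exists_good_rep N q
  refine ⟨y, hy, ?_⟩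
  apply orderOf_dvd_iff_pow_eq_one.1
  refine arith hn Nat.card_pos (orderOf_pos y) (orderOf_pos q) (s := Nat.card N) (k := orderOf q) ?_ hpr
    (orderOf_dvd_of_pow_eq_one hq)
  apply orderOf_dvd_of_pow_eq_one
  rw [pow_mul]
  have h1 : y ^ orderOf q ∈ N := by
    apply (QuotientGroup.eq_one_iff _).1
    change QuotientGroup.mk' N (y ^ orderOf q) = 1
    rw [map_pow, hy, pow_orderOf_eq_one]
  have h2 := pow_card_eq_one' (x := (⟨_, h1⟩ : N))
  exact congrArg Subtype.val h2

/-- partition over cosets -/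
theorem cnt_eq_sum {G : Type u} [Group G] [Finite G] (N : Subgroup G) [N.Normal] (n : ℕ) [Fintype (G ⧸ N)] :
    cnt G n = ∑ q : G ⧸ N, Nat.card {y : G // QuotientGroup.mk' N y = q ∧ y ^ n = 1} := by
  classical
  rw [cnt, ← Nat.card_congr (Equiv.sigmaFiberEquiv (fun x : {x : G // x ^ n = 1} => QuotientGroup.mk' N x.1)),
    Nat.card_sigma]
  refine Finset.sum_congr rfl fun q _ => ?_
  exact Nat.card_congr ⟨fun x => ⟨x.1.1, x.2, x.1.2⟩, fun x => ⟨⟨x.1, x.2.2⟩, x.2.1⟩, fun _ => rfl, fun _ => rfl⟩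

theorem gcd_dvd_fiber {G : Type u} [Group G] [Finite G] (N : Subgroup G) [N.Normal] (n : ℕ) (q : G ⧸ N) :
    Nat.gcd n (Nat.card N) ∣ Nat.card {y : G // QuotientGroup.mk' N y = q ∧ y ^ n = 1} := by
  obtain ⟨x, rfl⟩ := QuotientGroup.mk'_surjective N q
  have h := hall_coset N x n
  have e : Nat.card {y : G // x⁻¹ * y ∈ N ∧ y ^ n = 1} =
      Nat.card {y : G // QuotientGroup.mk' N y = QuotientGroup.mk' N x ∧ y ^ n = 1} := by
    refine Nat.card_congr (Equiv.subtypeEquivRight fun y => ?_)
    have : x⁻¹ * y ∈ N ↔ QuotientGroup.mk' N y = QuotientGroup.mk' N x := by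
      rw [eq_comm]
      exact (QuotientGroup.eq (s := N) (a := x) (b := y)).symm
    rw [this]
  rwa [e] at h

theorem cnt_subgroup {G : Type u} [Group G] [Finite G] (N : Subgroup G) (n : ℕ) :
    cnt N (Nat.gcd n (Nat.card N)) = cnt N n := by
  refine Nat.card_congr (Equiv.subtypeEquivRight fun x => ?_)
  rw [← orderOf_dvd_iff_pow_eq_one, ← orderOf_dvd_iff_pow_eq_one, Nat.dvd_gcd_iff]
  exact ⟨fun h => h.1, fun h => ⟨h, orderOf_dvd_natCard x⟩⟩

/-- **Reduction**. -/
theorem reduce {G : Type u} [Group G] [Finite G] (N : Subgroup G) [N.Normal] {n : ℕ} (hn : n ∣ Nat.card G)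
    (hc : cnt G n = n) :
    cnt N (Nat.gcd n (Nat.card N)) = Nat.gcd n (Nat.card N) ∧
      cnt (G ⧸ N) (n / Nat.gcd n (Nat.card N)) = n / Nat.gcd n (Nat.card N) ∧
      n / Nat.gcd n (Nat.card N) ∣ Nat.card (G ⧸ N) := by
  classical
  have hn0 : 0 < n := Nat.pos_of_dvd_of_pos hn Nat.card_pos
  set m := Nat.gcd n (Nat.card N) with hm
  have hm0 : 0 < m := Nat.gcd_pos_of_pos_left _ hn0
  have hmn : m ∣ n := Nat.gcd_dvd_left _ _
  have hdvd : n / m ∣ Nat.card (G ⧸ N) := by
    have h1 : n ∣ m * Nat.card (G ⧸ N) := by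
      rw [hm, ← Nat.gcd_mul_right]
      refine Nat.dvd_gcd (dvd_mul_right _ _) ?_
      rw [mul_comm, ← Subgroup.card_eq_card_quotient_mul_card_subgroup]
      exact hn
    rw [Nat.div_dvd_iff_dvd_mul hmn hm0]
    exact h1
  have : Fintype (G ⧸ N) := Fintype.ofFinite _
  set f : G ⧸ N → ℕ := fun q => Nat.card {y : G // QuotientGroup.mk' N y = q ∧ y ^ n = 1} with hf
  have hsum : n = ∑ q : G ⧸ N, f q := by rw [← hc]; exact cnt_eq_sum N n
  set T : Finset (G ⧸ N) := Finset.univ.filter (fun q => q ^ (n / m) = 1) with hT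
  have hTc : T.card = cnt (G ⧸ N) (n / m) := by
    rw [cnt, Nat.card_eq_fintype_card, Fintype.card_subtype]
  have hfm : ∀ q ∈ T, m ≤ f q := by
    intro q hq
    rw [hT, Finset.mem_filter] at hq
    obtain ⟨y, hy1, hy2⟩ := exists_sol N hn0 q hq.2
    have : Nonempty {y : G // QuotientGroup.mk' N y = q ∧ y ^ n = 1} := ⟨⟨y, hy1, hy2⟩⟩
    exact Nat.le_of_dvd Nat.card_pos (gcd_dvd_fiber N n q)
  have hle1 : ∑ q ∈ T, f q ≤ n := by
    rw [hsum]
    exact Finset.sum_le_univ_sum_of_nonneg (fun _ => Nat.zero_le _)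
  have hle2 : T.card * m ≤ ∑ q ∈ T, f q := by
    rw [← smul_eq_mul, ← Finset.sum_const]
    exact Finset.sum_le_sum hfm
  have hle3 : n / m ≤ T.card := by rw [hTc]; exact le_cnt hdvd
  have hnm : n / m * m = n := Nat.div_mul_cancel hmn
  have heq : T.card = n / m := by
    have h1 : T.card * m ≤ n / m * m := by rw [hnm]; exact hle2.trans hle1
    exact le_antisymm (Nat.le_of_mul_le_mul_right h1 hm0) hle3
  have heq2 : ∑ q ∈ T, f q = ∑ q ∈ T, m := by
    rw [Finset.sum_const, smul_eq_mul, heq, hnm]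
    apply le_antisymm hle1
    calc n = T.card * m := by rw [heq, hnm]
      _ ≤ _ := hle2
  have hall := (Finset.sum_eq_sum_iff_of_le (f := fun _ => m) (g := f) (s := T) hfm).1 heq2.symm
  have h1T : (1 : G ⧸ N) ∈ T := by
    rw [hT, Finset.mem_filter]
    exact ⟨Finset.mem_univ _, one_pow _⟩
  have hf1 : f 1 = m := (hall 1 h1T).symm
  refine ⟨?_, by rw [← hTc, heq], hdvd⟩
  rw [cnt_subgroup, ← hf1]
  refine Nat.card_congr ⟨fun x => ⟨x.1.1, ?_, ?_⟩, fun x => ⟨⟨x.1, ?_⟩, ?_⟩, fun _ => rfl, fun _ => rfl⟩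
  · exact (QuotientGroup.eq_one_iff _).2 x.1.2
  · exact congrArg Subtype.val x.2
  · exact (QuotientGroup.eq_one_iff _).1 x.2.1
  · exact Subtype.ext x.2.2


/-- Frobenius' conjecture for `G` -/
def FrobP (G : Type u) [Group G] : Prop :=
  ∀ n : ℕ, n ∣ Nat.card G → cnt G n = n → ∃ H : Subgroup G, (H : Set G) = {x : G | x ^ n = 1}

/-- `S` is a quotient of a subnormal subgroup of `G` -/
def IsFac (G : Type u) [Group G] (S : Type u) [Group S] : Prop :=
  ∃ H : Subgroup G, H.IsSubnormal ∧ ∃ f : H →* S, Function.Surjective f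

theorem cnt_congr {G H : Type u} [Group G] [Group H] (e : G ≃* H) (n : ℕ) : cnt G n = cnt H n := by
  refine Nat.card_congr (e.toEquiv.subtypeEquiv fun x => ?_)
  constructor
  · intro h
    change (e x) ^ n = 1
    rw [← map_pow, h, map_one]
  · intro h
    have h' : (e x) ^ n = 1 := h
    rw [← map_pow] at h'
    exact (map_eq_one_iff e e.injective).1 h'

theorem FrobP.congr {G H : Type u} [Group G] [Group H] (e : G ≃* H) (h : FrobP G) : FrobP H := by
  intro n hn hc
  obtain ⟨K, hK⟩ := h n (by rw [Nat.card_congr e.toEquiv]; exact hn) (by rw [cnt_congr e]; exact hc)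
  refine ⟨K.comap e.symm.toMonoidHom, ?_⟩
  ext x
  have h1 : x ∈ K.comap e.symm.toMonoidHom ↔ e.symm x ∈ K := Iff.rfl
  rw [SetLike.mem_coe, h1, ← SetLike.mem_coe, hK]
  simp only [Set.mem_ofPred_eq]
  rw [← map_pow]
  exact map_eq_one_iff e.symm e.symm.injective

theorem IsFac.of_subgroup {G : Type u} [Group G] (N : Subgroup G) (hN : N.Normal) (S : Type u) [Group S]
    (h : IsFac N S) : IsFac G S := by
  obtain ⟨H, hH, f, hf⟩ := h
  refine ⟨H.map N.subtype, Subgroup.IsSubnormal.trans' hH hN.isSubnormal,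
    f.comp (H.equivMapOfInjective N.subtype N.subtype_injective).symm.toMonoidHom, ?_⟩
  exact hf.comp (H.equivMapOfInjective N.subtype N.subtype_injective).symm.surjective

theorem IsFac.of_quotient {G : Type u} [Group G] (N : Subgroup G) [N.Normal] (S : Type u) [Group S]
    (h : IsFac (G ⧸ N) S) : IsFac G S := by
  obtain ⟨H, hH, f, hf⟩ := h
  refine ⟨H.comap (QuotientGroup.mk' N), hH.comap _,
    f.comp ((QuotientGroup.mk' N).subgroupComap H), ?_⟩
  refine hf.comp ?_
  exact (QuotientGroup.mk' N).subgroupComap_surjective_of_surjective H (QuotientGroup.mk'_surjective N)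

theorem IsFac.self (G : Type u) [Group G] : IsFac G G := by
  refine ⟨⊤, Subgroup.Normal.isSubnormal inferInstance, (⊤ : Subgroup G).subtype, fun x => ⟨⟨x, mem_top x⟩, rfl⟩⟩

/-- `n ≠ 0` solutions sets: a subgroup of order `cnt G n` consisting of solutions is the solution set. -/
theorem eq_of_card {G : Type u} [Group G] [Finite G] {n : ℕ} (K : Subgroup G) (h : ∀ x ∈ K, x ^ n = 1)
    (hc : cnt G n ≤ Nat.card K) : (K : Set G) = {x : G | x ^ n = 1} := by
  have h1 : Set.ncard {x : G | x ^ n = 1} = cnt G n := (Nat.card_coe_set_eq _).symm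
  have h2 : Set.ncard (K : Set G) = Nat.card K := (Nat.card_coe_set_eq _).symm
  exact Set.eq_of_subset_of_ncard_le (fun x hx => h x hx) (by rw [h1, h2]; exact hc) (Set.toFinite _)

theorem main (M : ℕ) : ∀ (G : Type u) [Group G] [Finite G], Nat.card G ≤ M →
    (∀ (S : Type u) [Group S], IsSimpleGroup S → IsFac G S → FrobP S) → FrobP G := by
  induction M with
  | zero =>
    intro G _ _ hM
    exact absurd (Nat.card_pos (α := G)) (by omega)
  | succ M ih =>
    intro G _ _ hM hfac n hn hc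
    have hn0 : 0 < n := Nat.pos_of_dvd_of_pos hn Nat.card_pos
    by_cases hsim : IsSimpleGroup G
    · exact hfac G hsim (IsFac.self G) n hn hc
    by_cases htriv : Nat.card G = 1
    · refine ⟨⊤, ?_⟩
      have : Subsingleton G := (Nat.card_eq_one_iff_unique.1 htriv).1
      ext x
      simp [Subsingleton.elim x 1]
    -- a proper non-trivial normal subgroup
    have hex : ∃ N : Subgroup G, N.Normal ∧ N ≠ ⊥ ∧ N ≠ ⊤ := by
      by_contra hcon
      push Not at hcon
      apply hsim
      have hnt : Nontrivial G := by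
        rw [← not_subsingleton_iff_nontrivial]
        intro h
        exact htriv (Nat.card_eq_one_iff_unique.2 ⟨h, ⟨1⟩⟩)
      exact ⟨fun N hN => by
        by_cases h : N = ⊥
        · exact Or.inl h
        · exact Or.inr (hcon N hN h)⟩
    obtain ⟨N, hNn, hNb, hNt⟩ := hex
    have hNcard : Nat.card N ≤ M := by
      have h1 : Nat.card N < Nat.card G := by
        refine lt_of_le_of_ne (Subgroup.card_le_card_group N) ?_
        intro h2
        exact hNt (Subgroup.eq_top_of_card_eq N h2)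
      omega
    have hquot : ∀ K : Subgroup G, K.Normal → K ≠ ⊥ → Nat.card (G ⧸ K) ≤ M := by
      intro K hK hKb
      have h1 := Subgroup.card_eq_card_quotient_mul_card_subgroup K
      have h2 : 1 < Nat.card K := by
        rw [Subgroup.one_lt_card_iff_ne_bot]; exact hKb
      have h3 : 0 < Nat.card (G ⧸ K) := Nat.card_pos
      nlinarith
    obtain ⟨hr1, hr2, hr3⟩ := reduce N hn hc
    set m := Nat.gcd n (Nat.card N) with hm
    have hmn : m ∣ n := Nat.gcd_dvd_left _ _
    have hm0 : 0 < m := Nat.gcd_pos_of_pos_left _ hn0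
    by_cases hm1 : m = 1
    · -- coprime case
      rw [hm1, Nat.div_one] at hr2 hr3
      obtain ⟨Q, hQ⟩ := ih (G ⧸ N) (hquot N hNn hNb) (fun S _ hS hf => hfac S hS (IsFac.of_quotient N S hf)) n hr3 hr2
      have hQc : Nat.card Q = n := by
        rw [← hr2, cnt]
        exact Nat.card_congr (Equiv.setCongr hQ)
      set H := Q.comap (QuotientGroup.mk' N) with hH
      have hNH : N ≤ H := by
        intro x hx
        rw [hH, mem_comap, show QuotientGroup.mk' N x = 1 from (QuotientGroup.eq_one_iff x).2 hx]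
        exact one_mem _
      have hHc : Nat.card H = Nat.card N * n := by
        have h1 : Nat.card Q = N.relIndex H := by
          have := Subgroup.relIndex_ker (K := H) (QuotientGroup.mk' N)
          rw [QuotientGroup.ker_mk'] at this
          rw [this, hH, Subgroup.map_comap_eq_self_of_surjective (QuotientGroup.mk'_surjective N)]
        rw [← hQc, h1, ← Subgroup.relIndex_bot_left N, Subgroup.relIndex_mul_relIndex _ _ _ bot_le hNH,
          Subgroup.relIndex_bot_left]
      have hc1 : Nat.card (N.subgroupOf H) = Nat.card N := Nat.card_congr (Subgroup.subgroupOfEquivOfLe hNH).toEquiv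
      have hi : (N.subgroupOf H).index = n := by
        have h1 := Subgroup.card_mul_index (N.subgroupOf H)
        rw [hc1, hHc] at h1
        exact Nat.eq_of_mul_eq_mul_left Nat.card_pos h1
      obtain ⟨K, hK⟩ := Subgroup.exists_right_complement'_of_coprime (N := N.subgroupOf H)
        (by rw [hc1, hi]; exact (Nat.coprime_iff_gcd_eq_one.2 (hm ▸ hm1)).symm)
      have hKc : Nat.card K = n := by rw [← hi]; exact hK.symm.index_eq_card.symm
      refine ⟨K.map H.subtype, eq_of_card _ ?_ ?_⟩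
      · rintro _ ⟨x, hx, rfl⟩
        have h2 := pow_card_eq_one' (x := (⟨x, hx⟩ : K))
        rw [hKc] at h2
        have h3 : x ^ n = 1 := congrArg Subtype.val h2
        exact congrArg Subtype.val h3
      · rw [hc, ← hKc]
        exact (Nat.card_congr (K.equivMapOfInjective _ H.subtype_injective).toEquiv).le
    · -- `L_m(N)` is a normal subgroup of order `m > 1`
      obtain ⟨M0, hM0⟩ := ih N hNcard (fun S _ hS hf => hfac S hS (IsFac.of_subgroup N hNn S hf)) m
        (Nat.gcd_dvd_right _ _) hr1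
      set K := M0.map N.subtype with hK
      have hKmem : ∀ x : G, x ∈ K ↔ (x ∈ N ∧ x ^ m = 1) := by
        intro x
        constructor
        · rintro ⟨y, hy, rfl⟩
          have h1 : y ∈ (M0 : Set N) := hy
          rw [hM0] at h1
          exact ⟨y.2, congrArg Subtype.val h1⟩
        · rintro ⟨h1, h2⟩
          refine ⟨⟨x, h1⟩, ?_, rfl⟩
          rw [hM0]
          exact Subtype.ext h2
      have hKn : K.Normal := by
        refine ⟨fun x hx g => ?_⟩
        rw [hKmem] at hx ⊢
        refine ⟨hNn.conj_mem x hx.1 g, ?_⟩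
        rw [conj_pow, hx.2]; group
      have hKc : Nat.card K = m := by
        rw [← hr1, cnt, hK, ← Nat.card_congr (M0.equivMapOfInjective _ N.subtype_injective).toEquiv]
        exact Nat.card_congr (Equiv.setCongr hM0)
      have hKb : K ≠ ⊥ := by
        intro h
        rw [h, Subgroup.card_bot] at hKc
        exact hm1 hKc.symm
      obtain ⟨-, hs2, hs3⟩ := reduce K hn hc
      rw [hKc, Nat.gcd_eq_right hmn] at hs2 hs3
      obtain ⟨Q, hQ⟩ := ih (G ⧸ K) (hquot K hKn hKb) (fun S _ hS hf => hfac S hS (IsFac.of_quotient K S hf)) (n / m)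
        hs3 hs2
      have hQc : Nat.card Q = n / m := by
        rw [← hs2, cnt]
        exact Nat.card_congr (Equiv.setCongr hQ)
      set H := Q.comap (QuotientGroup.mk' K) with hH
      have hKH : K ≤ H := by
        intro x hx
        rw [hH, mem_comap, show QuotientGroup.mk' K x = 1 from (QuotientGroup.eq_one_iff x).2 hx]
        exact one_mem _
      have hHc : Nat.card H = n := by
        have h1 : Nat.card Q = K.relIndex H := by
          have := Subgroup.relIndex_ker (K := H) (QuotientGroup.mk' K)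
          rw [QuotientGroup.ker_mk'] at this
          rw [this, hH, Subgroup.map_comap_eq_self_of_surjective (QuotientGroup.mk'_surjective K)]
        have h2 : Nat.card K * Nat.card Q = Nat.card H := by
          rw [h1, ← Subgroup.relIndex_bot_left K, Subgroup.relIndex_mul_relIndex _ _ _ bot_le hKH,
            Subgroup.relIndex_bot_left]
        rw [← h2, hKc, hQc, Nat.mul_div_cancel' hmn]
      refine ⟨H, eq_of_card _ ?_ (by rw [hc, hHc])⟩
      intro x hx
      have h1 : QuotientGroup.mk' K x ∈ (Q : Set (G ⧸ K)) := hx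
      rw [hQ] at h1
      have h2 : x ^ (n / m) ∈ K := by
        apply (QuotientGroup.eq_one_iff _).1
        change QuotientGroup.mk' K (x ^ (n / m)) = 1
        rw [map_pow]
        exact h1
      have h3 := ((hKmem _).1 h2).2
      rw [← pow_mul, Nat.div_mul_cancel hmn] at h3
      exact h3

end Cfsg.Agent.H20.FrobReduce
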