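import Mathlib
import Cfsg.Agent.H20.FrobReduce

/-!
# Tools for counting the solutions of `x ^ n = 1` in a finite group

`Tr G`: the only divisors `n` of `|G|` with exactly `n` solutions of `x ^ n = 1` are `1` and `|G|`.

* `class_lt`: `|G| < cnt G n * |C(x)|` for `1 ≠ x`, `x ^ n = 1`;
* `jump`: no elements of order `p ^ (e + 1)`, `p ^ e ∣ n`, `n * p ∣ |G|`: `cnt G n ≠ n`;
* `prime_pow`: `n` a prime power;
* `modEq`: `cnt G n ≡ #{y | y ^ n = 1, y x = x y}` modulo the prime `p = orderOf x`;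
* `ti_count`: counting the conjugates of the elements of a TI subgroup;
* `not_cyclic_two`: a nonabelian simple group has no cyclic Sylow 2-subgroup.
-/

set_option autoImplicit false

universe u v

namespace Cfsg.Agent.H20.FrobTools

open Subgroup Cfsg.Agent.H20.FrobReduce

/-- only the trivial solutions -/
def Tr (G : Type u) [Group G] : Prop := ∀ n, n ∣ Nat.card G → cnt G n = n → n = 1 ∨ n = Nat.card G

theorem cnt_congr' {G : Type u} {H : Type v} [Group G] [Group H] (e : G ≃* H) (n : ℕ) : cnt G n = cnt H n := by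
  unfold cnt
  refine Nat.card_congr (e.toEquiv.subtypeEquiv fun x => ?_)
  show x ^ n = 1 ↔ (e x) ^ n = 1
  rw [← map_pow, EmbeddingLike.map_eq_one_iff]

theorem Tr.congr {G : Type u} {H : Type v} [Group G] [Group H] (e : G ≃* H) (h : Tr H) : Tr G := by
  intro n hn hc
  rw [Nat.card_congr e.toEquiv] at hn ⊢
  exact h n hn (by rw [← cnt_congr' e, hc])

theorem Tr.frobP {G : Type u} [Group G] [Finite G] (h : Tr G) : FrobP G := by
  intro n hn hc
  rcases h n hn hc with h1 | h1
  · refine ⟨⊥, ?_⟩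
    ext x
    subst h1
    simp
  · refine ⟨⊤, ?_⟩
    ext x
    subst h1
    simp

/-- groups of prime order -/
theorem Tr.of_prime {G : Type u} [Group G] (h : (Nat.card G).Prime) : Tr G := by
  intro n hn _
  exact (Nat.dvd_prime h).1 hn

theorem card_le_of_fiber {α : Type u} {β : Type v} [Finite α] [Finite β] (f : α → β) (m : ℕ)
    (h : ∀ b, Nat.card {a // f a = b} ≤ m) : Nat.card α ≤ Nat.card β * m := by
  classical
  have := Fintype.ofFinite β
  have := Fintype.ofFinite α
  rw [← Nat.card_congr (Equiv.sigmaFiberEquiv f), Nat.card_sigma, Nat.card_eq_fintype_card (α := β)]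
  refine (Finset.sum_le_card_nsmul _ _ m fun b _ => h b).trans ?_
  rw [smul_eq_mul, Finset.card_univ]

variable {G : Type u} [Group G] [Finite G]

/-! ### counting conjugates -/

/-- counting the conjugates of the elements of `B` -/
theorem ti_count (N : Subgroup G) (B T : Set G) (hTI : ∀ b ∈ B, ∀ c ∈ B, ∀ g, g * b * g⁻¹ = c → g ∈ N)
    (hT : ∀ g, ∀ b ∈ B, g * b * g⁻¹ ∈ T) : Nat.card G * Nat.card B ≤ Nat.card T * Nat.card N := by
  rw [← Nat.card_prod]
  refine card_le_of_fiber (fun p : G × B => (⟨p.1 * p.2 * p.1⁻¹, hT _ _ p.2.2⟩ : T)) _ fun t => ?_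
  by_cases hemp : ∃ a : G × B, (⟨a.1 * a.2 * a.1⁻¹, hT _ _ a.2.2⟩ : T) = t
  · obtain ⟨a, ha⟩ := hemp
    have ha' : a.1 * a.2 * a.1⁻¹ = (t : G) := congrArg Subtype.val ha
    refine Nat.card_le_card_of_injective
      (fun p : {p : G × B // (⟨p.1 * p.2 * p.1⁻¹, hT _ _ p.2.2⟩ : T) = t} => (⟨a.1⁻¹ * p.1.1, ?_⟩ : N)) ?_
    · have hp : p.1.1 * p.1.2 * p.1.1⁻¹ = (t : G) := congrArg Subtype.val p.2
      refine hTI _ p.1.2.2 _ a.2.2 _ ?_
      calc a.1⁻¹ * p.1.1 * p.1.2 * (a.1⁻¹ * p.1.1)⁻¹ = a.1⁻¹ * (p.1.1 * p.1.2 * p.1.1⁻¹) * a.1 := by group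
        _ = a.1⁻¹ * (a.1 * a.2 * a.1⁻¹) * a.1 := by rw [hp, ha']
        _ = a.2 := by group
    · rintro ⟨⟨g, b⟩, hp⟩ ⟨⟨g', b'⟩, hp'⟩ he
      have h1 : a.1⁻¹ * g = a.1⁻¹ * g' := congrArg Subtype.val he
      have h2 : g = g' := mul_left_cancel h1
      subst h2
      have h3 : g * b * g⁻¹ = g * b' * g⁻¹ := (congrArg Subtype.val hp).trans (congrArg Subtype.val hp').symm
      have h4 : b = b' := Subtype.ext (mul_left_cancel (mul_right_cancel h3))
      subst h4
      rfl
  · have : IsEmpty {p : G × B // (⟨p.1 * p.2 * p.1⁻¹, hT _ _ p.2.2⟩ : T) = t} := ⟨fun p => hemp ⟨p.1, p.2⟩⟩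
    rw [Nat.card_of_isEmpty]
    exact Nat.zero_le _

omit [Finite G] in
theorem mem_cent {x y : G} : y ∈ centralizer ({x} : Set G) ↔ y * x = x * y := by
  rw [mem_centralizer_singleton_iff]

/-- the solutions other than `1` in a set of size at most `cnt - 1` -/
theorem card_add_one_le {n : ℕ} (T : Set G) (h : ∀ y ∈ T, y ≠ 1 ∧ y ^ n = 1) : Nat.card T + 1 ≤ cnt G n := by
  classical
  rw [← Finite.card_option]
  refine Nat.card_le_card_of_injective (fun o : Option T => match o with
    | none => (⟨1, one_pow n⟩ : {x : G // x ^ n = 1})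
    | some y => ⟨y, (h y y.2).2⟩) ?_
  rintro (_ | ⟨y, hy⟩) (_ | ⟨z, hz⟩) he
  · rfl
  · exact absurd (congrArg Subtype.val he).symm (h z hz).1
  · exact absurd (congrArg Subtype.val he) (h y hy).1
  · have : y = z := congrArg Subtype.val he
    subst this
    rfl

theorem class_lt {n : ℕ} {x : G} (hx1 : x ≠ 1) (hx : x ^ n = 1) :
    Nat.card G < cnt G n * Nat.card (centralizer ({x} : Set G)) := by
  have h1 := ti_count (centralizer ({x} : Set G)) {x} {y : G | ∃ g, g * x * g⁻¹ = y} (by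
    rintro b rfl c rfl g hg
    rw [mem_cent]
    exact mul_inv_eq_iff_eq_mul.1 hg) (by
    rintro g b rfl
    exact ⟨g, rfl⟩)
  have h0 : Nat.card ({x} : Set G) = 1 := by
    rw [Nat.card_coe_set_eq, Set.ncard_singleton]
  rw [h0, mul_one] at h1
  have h2 := card_add_one_le (n := n) {y : G | ∃ g, g * x * g⁻¹ = y} (by
    rintro y ⟨g, rfl⟩
    constructor
    · intro h
      exact hx1 (conj_eq_one_iff.1 h)
    · rw [conj_pow, hx, mul_one, mul_inv_cancel])
  have h3 : 0 < Nat.card (centralizer ({x} : Set G)) := Nat.card_pos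
  calc Nat.card G ≤ _ := h1
    _ < _ := Nat.mul_lt_mul_of_pos_right (by omega) h3

omit [Finite G] in
theorem index_le_class {x : G} [Finite G] :
    (centralizer ({x} : Set G)).index ≤ Nat.card {y : G | ∃ g, g * x * g⁻¹ = y} := by
  have h1 := ti_count (centralizer ({x} : Set G)) {x} {y : G | ∃ g, g * x * g⁻¹ = y} (by
    rintro b rfl c rfl g hg
    rw [mem_cent]
    exact mul_inv_eq_iff_eq_mul.1 hg) (by
    rintro g b rfl
    exact ⟨g, rfl⟩)
  have h0 : Nat.card ({x} : Set G) = 1 := by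
    rw [Nat.card_coe_set_eq, Set.ncard_singleton]
  rw [h0, mul_one, ← index_mul_card (centralizer ({x} : Set G))] at h1
  exact Nat.le_of_mul_le_mul_right h1 Nat.card_pos

/-- two classes -/
theorem class_two {n : ℕ} {x y : G} (hx1 : x ≠ 1) (hy1 : y ≠ 1) (hx : x ^ n = 1) (hy : y ^ n = 1)
    (hxy : orderOf x ≠ orderOf y) :
    (centralizer ({x} : Set G)).index + (centralizer ({y} : Set G)).index < cnt G n := by
  have h2 := card_add_one_le (n := n) ({z : G | ∃ g, g * x * g⁻¹ = z} ∪ {z : G | ∃ g, g * y * g⁻¹ = z}) (by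
    rintro z (⟨g, rfl⟩ | ⟨g, rfl⟩)
    · exact ⟨fun h => hx1 (conj_eq_one_iff.1 h), by rw [conj_pow, hx, mul_one, mul_inv_cancel]⟩
    · exact ⟨fun h => hy1 (conj_eq_one_iff.1 h), by rw [conj_pow, hy, mul_one, mul_inv_cancel]⟩)
  have h3 : Disjoint {z : G | ∃ g, g * x * g⁻¹ = z} {z : G | ∃ g, g * y * g⁻¹ = z} := by
    rw [Set.disjoint_left]
    rintro z ⟨g, hg⟩ ⟨g', hg'⟩
    apply hxy
    have e1 : orderOf z = orderOf x := by
      rw [← hg]
      exact (MulAut.conj g).orderOf_eq x
    have e2 : orderOf z = orderOf y := by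
      rw [← hg']
      exact (MulAut.conj g').orderOf_eq y
    rw [← e1, ← e2]
  have h4 : Nat.card ↑({z : G | ∃ g, g * x * g⁻¹ = z} ∪ {z : G | ∃ g, g * y * g⁻¹ = z} : Set G) =
      Nat.card {z : G | ∃ g, g * x * g⁻¹ = z} + Nat.card {z : G | ∃ g, g * y * g⁻¹ = z} := by
    rw [Nat.card_coe_set_eq, Nat.card_coe_set_eq, Nat.card_coe_set_eq]
    exact Set.ncard_union_eq h3 (Set.toFinite _) (Set.toFinite _)
  have h5 := index_le_class (x := x)
  have h6 := index_le_class (x := y)
  omega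

/-- the form used most -/
theorem lt_cent {n k : ℕ} (hk : n * k = Nat.card G) (hc : cnt G n = n) {x : G} (hx1 : x ≠ 1) (hx : x ^ n = 1) :
    k < Nat.card (centralizer ({x} : Set G)) := by
  have h := class_lt hx1 hx
  rw [hc, ← hk] at h
  exact lt_of_mul_lt_mul_left h (Nat.zero_le n)

/-! ### the jump -/

theorem ne_of_jump {n p : ℕ} (hp : p.Prime) (hd : n * p ∣ Nat.card G) (h : ∀ x : G, x ^ (n * p) = 1 → x ^ n = 1) :
    cnt G n ≠ n := by
  intro hc
  have h1 := le_cnt hd
  have h2 : cnt G (n * p) = cnt G n := by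
    unfold cnt
    refine Nat.card_congr (Equiv.subtypeEquivRight fun x => ⟨h x, fun hx => ?_⟩)
    rw [pow_mul, hx, one_pow]
  rw [h2, hc] at h1
  have hn : n ≠ 0 := by
    rintro rfl
    rw [zero_mul] at hd
    exact Nat.card_pos.ne' (Nat.eq_zero_of_zero_dvd hd)
  have := hp.two_le
  nlinarith [Nat.pos_of_ne_zero hn]

/-- If `p ^ e ∣ n` and there are no elements of order `p ^ (e + 1)`, then `x ^ (n p) = 1` implies `x ^ n = 1`. -/
theorem pow_eq_one_of {n p e : ℕ} (hp : p.Prime) (hn : n ≠ 0) (hpe : p ^ e ∣ n)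
    (hexp : ∀ x : G, orderOf x ≠ p ^ (e + 1)) {x : G} (hx : x ^ (n * p) = 1) : x ^ n = 1 := by
  rw [← orderOf_dvd_iff_pow_eq_one]
  have ho : orderOf x ≠ 0 := (orderOf_pos x).ne'
  have h1 : orderOf x ∣ n * p := orderOf_dvd_of_pow_eq_one hx
  have hnot : ¬ p ^ (e + 1) ∣ orderOf x := by
    intro h
    obtain ⟨c, hc⟩ := h
    have hc0 : c ≠ 0 := by rintro rfl; rw [mul_zero] at hc; exact ho hc
    apply hexp (x ^ c)
    rw [orderOf_pow' x hc0, hc, Nat.gcd_mul_left_left, Nat.mul_div_cancel _ (Nat.pos_of_ne_zero hc0)]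
  rw [← Nat.factorization_prime_le_iff_dvd ho hn]
  intro q hq
  have h2 := (Nat.factorization_prime_le_iff_dvd ho (mul_ne_zero hn hp.ne_zero)).2 h1 q hq
  by_cases hqp : q = p
  · subst hqp
    have h3 : (orderOf x).factorization q ≤ e := by
      by_contra hcon
      push Not at hcon
      exact hnot ((hq.pow_dvd_iff_le_factorization ho).2 hcon)
    exact h3.trans ((hq.pow_dvd_iff_le_factorization hn).1 hpe)
  · rw [Nat.factorization_mul hn hp.ne_zero, Finsupp.add_apply, hp.factorization, Finsupp.single_apply,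
      if_neg (Ne.symm hqp), add_zero] at h2
    exact h2

theorem jump {n p e : ℕ} (hp : p.Prime) (hpe : p ^ e ∣ n) (hexp : ∀ x : G, orderOf x ≠ p ^ (e + 1))
    (hd : n * p ∣ Nat.card G) : cnt G n ≠ n := by
  have hn : n ≠ 0 := by
    rintro rfl
    rw [zero_mul] at hd
    exact Nat.card_pos.ne' (Nat.eq_zero_of_zero_dvd hd)
  exact ne_of_jump hp hd fun x hx => pow_eq_one_of hp hn hpe hexp hx

/-! ### prime powers -/

/-- If `n` is a power of `p` and `cnt G n = n`, then all solutions lie in every Sylow `p`-subgroup. -/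
theorem mem_sylow {p a : ℕ} [hp : Fact p.Prime] (hd : p ^ a ∣ Nat.card G) (hc : cnt G (p ^ a) = p ^ a)
    (P : Sylow p G) {x : G} (hx : x ^ p ^ a = 1) : x ∈ (P : Subgroup G) := by
  classical
  have h1 : p ^ a ∣ Nat.card (P : Subgroup G) := by
    rw [Sylow.card_eq_multiplicity]
    exact pow_dvd_pow p ((hp.out.pow_dvd_iff_le_factorization Nat.card_pos.ne').1 hd)
  have h2 := le_cnt h1
  -- the solutions in `P`
  let f : {y : (P : Subgroup G) // y ^ p ^ a = 1} → {y : G // y ^ p ^ a = 1} := fun y =>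
    ⟨y.1, by have := congrArg Subtype.val y.2; simpa using this⟩
  have hf : Function.Injective f := by
    intro y z h
    have h' : ((y.1 : (P : Subgroup G)) : G) = z.1 := congrArg (fun w : {y : G // y ^ p ^ a = 1} => (w : G)) h
    exact Subtype.ext (Subtype.ext h')
  have hb : Function.Bijective f := by
    rw [Nat.bijective_iff_injective_and_card]
    refine ⟨hf, le_antisymm (Nat.card_le_card_of_injective f hf) ?_⟩
    change cnt G (p ^ a) ≤ cnt (P : Subgroup G) (p ^ a)
    rw [hc]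
    exact h2
  obtain ⟨y, hy⟩ := hb.2 ⟨x, hx⟩
  have : (y.1 : G) = x := congrArg Subtype.val hy
  rw [← this]
  exact y.1.2

theorem not_isPGroup [IsSimpleGroup G] (hna : ¬ ∀ a b : G, a * b = b * a) {p : ℕ} [Fact p.Prime]
    (h : IsPGroup p G) : False := by
  have h1 : Nontrivial (center G) := h.center_nontrivial
  have h2 : center G ≠ ⊥ := (Subgroup.nontrivial_iff_ne_bot _).1 h1
  rcases (inferInstance : (center G).Normal).eq_bot_or_eq_top with h3 | h3
  · exact h2 h3
  · apply hna
    intro a b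
    have : a ∈ center G := by rw [h3]; exact mem_top a
    exact ((mem_center_iff.1 this) b).symm

theorem prime_pow [IsSimpleGroup G] (hna : ¬ ∀ a b : G, a * b = b * a) {p a : ℕ} (hp : p.Prime)
    (hd : p ^ a ∣ Nat.card G) (hc : cnt G (p ^ a) = p ^ a) : a = 0 := by
  by_contra ha
  have : Fact p.Prime := ⟨hp⟩
  obtain ⟨P⟩ : Nonempty (Sylow p G) := inferInstance
  have hnorm : (closure {x : G | x ^ p ^ a = 1}).Normal := by
    refine ⟨fun x hx g => ?_⟩
    have h1 : (closure {x : G | x ^ p ^ a = 1}).map (MulAut.conj g).toMonoidHom ≤ closure {x : G | x ^ p ^ a = 1} := by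
      rw [MonoidHom.map_closure, closure_le]
      rintro _ ⟨y, hy, rfl⟩
      apply Subgroup.subset_closure
      show (MulAut.conj g y) ^ p ^ a = 1
      rw [← map_pow, show y ^ p ^ a = 1 from hy, map_one]
    exact h1 ⟨x, hx, rfl⟩
  have hle : closure {x : G | x ^ p ^ a = 1} ≤ (P : Subgroup G) := by
    rw [closure_le]
    intro x hx
    exact mem_sylow hd hc P hx
  rcases hnorm.eq_bot_or_eq_top with h1 | h1
  · have h2 : cnt G (p ^ a) = 1 := by
      unfold cnt
      rw [Nat.card_eq_one_iff_unique]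
      refine ⟨⟨fun x y => Subtype.ext ?_⟩, ⟨⟨1, one_pow _⟩⟩⟩
      have hx : x.1 ∈ closure {x : G | x ^ p ^ a = 1} := Subgroup.subset_closure x.2
      have hy : y.1 ∈ closure {x : G | x ^ p ^ a = 1} := Subgroup.subset_closure y.2
      rw [h1, mem_bot] at hx hy
      rw [hx, hy]
    rw [h2] at hc
    exact (Nat.one_lt_pow ha hp.one_lt).ne hc
  · rw [h1, top_le_iff] at hle
    have h3 : IsPGroup p (⊤ : Subgroup G) := hle ▸ P.isPGroup'
    exact not_isPGroup hna (h3.of_equiv topEquiv)

/-! ### action of an element of prime order -/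

theorem modEq {p n : ℕ} (hp : p.Prime) {x : G} (hx : orderOf x = p) :
    cnt G n ≡ Nat.card {y : G // y ^ n = 1 ∧ y * x = x * y} [MOD p] := by
  classical
  have : Fact p.Prime := ⟨hp⟩
  have := Fintype.ofFinite G
  let _ : MulAction (zpowers x) {y : G // y ^ n = 1} :=
    { smul := fun g y => ⟨g * y * (g : G)⁻¹, by rw [conj_pow, y.2, mul_one, mul_inv_cancel]⟩
      one_smul := fun y => Subtype.ext (by
        show ((1 : zpowers x) : G) * y * ((1 : zpowers x) : G)⁻¹ = y
        simp)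
      mul_smul := fun g h y => Subtype.ext (by
        show ((g * h : zpowers x) : G) * y * ((g * h : zpowers x) : G)⁻¹ = g * (h * y * (h : G)⁻¹) * (g : G)⁻¹
        rw [coe_mul]
        group) }
  have hsm : ∀ (g : zpowers x) (y : {y : G // y ^ n = 1}), ((g • y : {y : G // y ^ n = 1}) : G) = g * y * (g : G)⁻¹ :=
    fun _ _ => rfl
  have hP : IsPGroup p (zpowers x) := IsPGroup.of_card (n := 1) (by rw [Nat.card_zpowers, hx, pow_one])
  have h1 := hP.card_modEq_card_fixedPoints {y : G // y ^ n = 1}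
  refine h1.trans ?_
  have e : Nat.card (MulAction.fixedPoints (zpowers x) {y : G // y ^ n = 1}) =
      Nat.card {y : G // y ^ n = 1 ∧ y * x = x * y} := by
    refine Nat.card_congr ⟨fun y => ⟨y.1.1, y.1.2, ?_⟩, fun y => ⟨⟨y.1, y.2.1⟩, ?_⟩, fun _ => rfl, fun _ => rfl⟩
    · have h2 := congrArg Subtype.val (y.2 ⟨x, mem_zpowers x⟩)
      rw [hsm] at h2
      exact (mul_inv_eq_iff_eq_mul.1 h2).symm
    · rintro ⟨g, k, rfl⟩
      apply Subtype.ext
      rw [hsm]
      have h2 : Commute (y.1) x := y.2.2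
      have h3 : Commute (x ^ k) y.1 := (h2.zpow_right k).symm
      show x ^ k * y.1 * (x ^ k)⁻¹ = y.1
      rw [h3.eq, mul_inv_cancel_right]
  rw [e]

/-- If `x` has prime order `p`, `C(x) = ⟨x⟩` and `p ∤ n`, then `cnt G n ≡ 1`. -/
theorem modEq_one {p n : ℕ} (hp : p.Prime) {x : G} (hx : orderOf x = p)
    (hC : Nat.card (centralizer ({x} : Set G)) = p) (hpn : ¬ p ∣ n) : cnt G n ≡ 1 [MOD p] := by
  refine (modEq hp hx).trans ?_
  have e : Nat.card {y : G // y ^ n = 1 ∧ y * x = x * y} = 1 := by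
    rw [Nat.card_eq_one_iff_unique]
    refine ⟨⟨fun y z => Subtype.ext ?_⟩, ⟨⟨1, one_pow _, by simp⟩⟩⟩
    have key : ∀ y : G, y ^ n = 1 → y * x = x * y → y = 1 := by
      intro y hy hc
      have h1 : orderOf y ∣ p := by
        rw [← hC]
        exact orderOf_dvd_natCard _ (mem_cent.2 hc)
      rcases (Nat.dvd_prime hp).1 h1 with h2 | h2
      · exact orderOf_eq_one_iff.1 h2
      · exact absurd (h2 ▸ orderOf_dvd_of_pow_eq_one hy) hpn
    rw [key y y.2.1 y.2.2, key z z.2.1 z.2.2]
  rw [e]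

/-! ### the normalizer of a subgroup of prime order -/

omit [Finite G] in
theorem conj_mem_normalizer_of_prime {p : ℕ} (hp : p.Prime) {x : G} (hx : orderOf x = p) {b c g : G}
    (hb : b ∈ zpowers x) (hb1 : b ≠ 1) (hc : c ∈ zpowers x) (h : g * b * g⁻¹ = c) :
    g ∈ normalizer (zpowers x : Set G) := by
  have gen : ∀ y ∈ zpowers x, y ≠ 1 → zpowers y = zpowers x := by
    intro y hy hy1
    have hle : zpowers y ≤ zpowers x := zpowers_le.2 hy
    have hfin : Finite (zpowers x) := by
      apply Nat.finite_of_card_ne_zero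
      rw [Nat.card_zpowers, hx]
      exact hp.ne_zero
    apply eq_of_le_of_card_ge hle
    rw [Nat.card_zpowers, Nat.card_zpowers, hx]
    have h1 : orderOf y ∣ p := by
      rw [← hx, ← Nat.card_zpowers x]
      exact orderOf_dvd_natCard _ hy
    rcases (Nat.dvd_prime hp).1 h1 with h2 | h2
    · exact absurd (orderOf_eq_one_iff.1 h2) hy1
    · rw [h2]
  have hc1 : c ≠ 1 := by
    rintro rfl
    exact hb1 (conj_eq_one_iff.1 h)
  have h1 : (zpowers x).map (MulAut.conj g).toMonoidHom = zpowers x := by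
    conv_lhs => rw [← gen b hb hb1]
    rw [MonoidHom.map_zpowers]
    have : (MulAut.conj g).toMonoidHom b = c := h
    rw [this, gen c hc hc1]
  rw [mem_normalizer_iff]
  intro y
  constructor
  · intro hy
    rw [← h1]
    exact ⟨y, hy, rfl⟩
  · intro hy
    rw [← h1] at hy
    obtain ⟨z, hz, hzy⟩ := hy
    have : z = y := by
      have h2 : g * z * g⁻¹ = g * y * g⁻¹ := hzy
      exact mul_left_cancel (mul_right_cancel h2)
    rw [← this]
    exact hz

/-- counting the elements of prime order `p` conjugate into `⟨x⟩` -/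
theorem card_order_ge {p n : ℕ} (hp : p.Prime) {x : G} (hx : orderOf x = p) (hpn : p ∣ n) :
    Nat.card G * (p - 1) ≤ (cnt G n - 1) * Nat.card (normalizer (zpowers x : Set G)) := by
  classical
  have hcB : Nat.card ({y : G | y ∈ zpowers x ∧ y ≠ 1} : Set G) = p - 1 := by
    have h1 : {y : G | y ∈ zpowers x ∧ y ≠ 1} = (zpowers x : Set G) \ {1} := by
      ext y; simp
    rw [h1, Nat.card_coe_set_eq, Set.ncard_sdiff_singleton_of_mem (one_mem (zpowers x)), ← Nat.card_coe_set_eq]
    congr 1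
    rw [← hx, ← Nat.card_zpowers x]
    rfl
  have h1 := ti_count (normalizer (zpowers x : Set G)) {y : G | y ∈ zpowers x ∧ y ≠ 1}
    {y : G | y ≠ 1 ∧ y ^ n = 1} (by
      rintro b ⟨hb, hb1⟩ c ⟨hc, -⟩ g h
      exact conj_mem_normalizer_of_prime hp hx hb hb1 hc h) (by
      rintro g b ⟨hb, hb1⟩
      refine ⟨fun h => hb1 (conj_eq_one_iff.1 h), ?_⟩
      rw [conj_pow]
      have h2 : b ^ n = 1 := by
        obtain ⟨k, rfl⟩ := mem_zpowers_iff.1 hb
        obtain ⟨m, rfl⟩ := hpn
        rw [← zpow_natCast, ← zpow_mul, mul_comm, zpow_mul, zpow_natCast, pow_mul, ← hx, pow_orderOf_eq_one,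
          one_pow, one_zpow]
      rw [h2, mul_one, mul_inv_cancel])
  rw [hcB] at h1
  refine h1.trans (Nat.mul_le_mul_right _ ?_)
  have h2 := card_add_one_le (n := n) {y : G | y ≠ 1 ∧ y ^ n = 1} (fun y hy => hy)
  omega

omit [Finite G] in
theorem centralizer_zpowers (x : G) : centralizer (zpowers x : Set G) = centralizer ({x} : Set G) := by
  rw [zpowers_eq_closure, centralizer_closure]

/-- `|N(⟨x⟩)|` divides `|C(x)| (p - 1)`. -/
theorem card_normalizer_dvd {p : ℕ} (hp : p.Prime) {x : G} (hx : orderOf x = p) :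
    Nat.card (normalizer (zpowers x : Set G)) ∣ Nat.card (centralizer ({x} : Set G)) * (p - 1) := by
  have h1 := card_dvd_of_injective _ (QuotientGroup.kerLift_injective (zpowers x).normalizerMonoidHom)
  rw [IsCyclic.card_mulAut, Nat.card_zpowers, hx, Nat.totient_prime hp] at h1
  have h2 := (zpowers x).normalizerMonoidHom.ker.card_mul_index
  rw [normalizerMonoidHom_ker, centralizer_zpowers] at h2
  have h3 : Nat.card ((centralizer ({x} : Set G)).subgroupOf (normalizer (zpowers x : Set G))) =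
      Nat.card (centralizer ({x} : Set G)) := by
    have hle : centralizer ({x} : Set G) ≤ normalizer (zpowers x : Set G) := by
      rw [← centralizer_zpowers]
      exact centralizer_le_normalizer _
    exact Nat.card_congr (subgroupOfEquivOfLe hle).toEquiv
  rw [h3] at h2
  rw [← h2]
  refine Nat.mul_dvd_mul_left _ ?_
  rw [← index, normalizerMonoidHom_ker, centralizer_zpowers] at h1
  exact h1

omit [Finite G] in
/-- `|C(x)|` divides `|N(⟨x⟩)|`. -/
theorem card_centralizer_dvd {x : G} :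
    Nat.card (centralizer ({x} : Set G)) ∣ Nat.card (normalizer (zpowers x : Set G)) := by
  apply Subgroup.card_dvd_of_le
  rw [← centralizer_zpowers]
  exact centralizer_le_normalizer _

/-- Sylow's theorem -/
theorem index_normalizer {p : ℕ} (hp : p.Prime) {x : G} (hx : orderOf x = p) (hpp : ¬ p * p ∣ Nat.card G) :
    (normalizer (zpowers x : Set G)).index ≡ 1 [MOD p] := by
  have : Fact p.Prime := ⟨hp⟩
  have hP : IsPGroup p (zpowers x) := IsPGroup.of_card (n := 1) (by rw [Nat.card_zpowers, hx, pow_one])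
  have hi : ¬ p ∣ (zpowers x).index := by
    intro h
    apply hpp
    rw [← (zpowers x).card_mul_index, Nat.card_zpowers, hx]
    exact Nat.mul_dvd_mul_left _ h
  have h1 := (hP.toSylow hi).card_eq_index_normalizer
  have h2 := card_sylow_modEq_one p G
  rw [h1] at h2
  exact h2

/-- the order of the normalizer when `C(x) = ⟨x⟩` -/
theorem exists_normalizer {p : ℕ} (hp : p.Prime) {x : G} (hx : orderOf x = p)
    (hC : Nat.card (centralizer ({x} : Set G)) = p) (hpp : ¬ p * p ∣ Nat.card G) :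
    ∃ w i : ℕ, w ∣ p - 1 ∧ i ≡ 1 [MOD p] ∧ Nat.card (normalizer (zpowers x : Set G)) = p * w ∧
      p * w * i = Nat.card G := by
  have h1 := card_normalizer_dvd hp hx
  have h2 := card_centralizer_dvd (x := x)
  rw [hC] at h1 h2
  obtain ⟨w, hw⟩ := h2
  rw [hw] at h1
  refine ⟨w, _, Nat.dvd_of_mul_dvd_mul_left hp.pos h1, index_normalizer hp hx hpp, hw, ?_⟩
  rw [← hw]
  exact card_mul_index _

/-- If `|N(⟨x⟩)| = p w`, `w < p`, `p ∣ n` and `cnt G n = n`, then `|G| / n ≤ w`. -/
theorem k_le {p w n k : ℕ} (hp : p.Prime) {x : G} (hx : orderOf x = p)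
    (hN : Nat.card (normalizer (zpowers x : Set G)) = p * w) (hw : w < p) (hk : n * k = Nat.card G)
    (hc : cnt G n = n) (hpn : p ∣ n) : k ≤ w := by
  have h1 := card_order_ge hp hx hpn
  rw [hN, hc, ← hk] at h1
  have hn : 0 < n := Nat.pos_of_ne_zero (by
    rintro rfl
    rw [zero_mul] at hk
    exact Nat.card_pos.ne hk)
  by_contra hcon
  push Not at hcon
  obtain ⟨j, rfl⟩ : ∃ j, k = w + 1 + j := ⟨k - (w + 1), by omega⟩
  obtain ⟨i, rfl⟩ : ∃ i, p = w + 1 + i := ⟨p - (w + 1), by omega⟩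
  obtain ⟨m, rfl⟩ : ∃ m, n = m + 1 := ⟨n - 1, by omega⟩
  have e1 : w + 1 + i - 1 = w + i := by omega
  have e2 : m + 1 - 1 = m := by omega
  rw [e1, e2] at h1
  have e3 : (m + 1) * (w + 1 + j) * (w + i) =
      m * ((w + 1 + i) * w) + (m * i + (w * w + w * i) + (m + 1) * j * (w + i)) + (w + i) := by ring
  have h2 := hp.two_le
  omega

omit [Finite G] in
theorem card_centralizer_congr {H : Type v} [Group H] (e : G ≃* H) (x : G) :
    Nat.card (centralizer ({x} : Set G)) = Nat.card (centralizer ({e x} : Set H)) := by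
  refine Nat.card_congr (e.toEquiv.subtypeEquiv fun y => ?_)
  show y ∈ centralizer ({x} : Set G) ↔ e y ∈ centralizer ({e x} : Set H)
  rw [mem_centralizer_singleton_iff, mem_centralizer_singleton_iff, ← map_mul, ← map_mul, e.injective.eq_iff]

theorem not_comm [hs : IsSimpleGroup G] (h : ¬ (Nat.card G).Prime) : ¬ ∀ a b : G, a * b = b * a := by
  intro hc
  apply h
  let inst : CommGroup G := { ‹Group G› with mul_comm := hc }
  have h1 : @IsSimpleGroup G inst.toGroup := hs
  exact @IsSimpleGroup.prime_card G inst h1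

/-! ### Sylow 2-subgroups -/

theorem not_cyclic_two [IsSimpleGroup G] (hna : ¬ ∀ a b : G, a * b = b * a) {a : ℕ} (ha : a ≠ 0)
    (hd' : ¬ 2 ^ (a + 1) ∣ Nat.card G) (x : G) : orderOf x ≠ 2 ^ a := by
  intro hx
  have : Fact (Nat.Prime 2) := ⟨Nat.prime_two⟩
  have hP : IsPGroup 2 (zpowers x) := IsPGroup.of_card (n := a) (by rw [Nat.card_zpowers, hx])
  have hi : ¬ 2 ∣ (zpowers x).index := by
    intro h
    apply hd'
    rw [← (zpowers x).card_mul_index, Nat.card_zpowers, hx, pow_succ]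
    exact Nat.mul_dvd_mul_left _ h
  have h2 : 2 ∣ Nat.card G := by
    refine (dvd_pow_self 2 ha).trans ?_
    rw [← hx]
    exact orderOf_dvd_natCard x
  have hmin : (Nat.card G).minFac = 2 := (Nat.minFac_eq_two_iff _).2 h2
  have hcyc : IsCyclic (hP.toSylow hi : Subgroup G) := by
    show IsCyclic (zpowers x)
    infer_instance
  have hc := IsCyclic.isComplement' hmin hcyc
  have hcard : Nat.card (hP.toSylow hi : Subgroup G) = 2 ^ a := by
    show Nat.card (zpowers x) = 2 ^ a
    rw [Nat.card_zpowers, hx]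
  rcases (inferInstance : (MonoidHom.transferSylow (hP.toSylow hi)
      (hcyc.normalizer_le_centralizer hmin)).ker.Normal).eq_bot_or_eq_top with h | h
  · rw [h, isComplement'_bot_left] at hc
    apply hna
    have hz : (zpowers x) = ⊤ := hc
    have hall : ∀ y : G, y ∈ zpowers x := fun y => by rw [hz]; exact mem_top y
    have hcG : IsCyclic G := ⟨⟨x, hall⟩⟩
    intro b c
    exact (IsCyclic.isMulCommutative (α := G)).is_comm.comm b c
  · rw [h, isComplement'_top_left] at hc
    rw [hc, card_bot] at hcard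
    exact absurd hcard (Nat.one_lt_two_pow ha).ne

end Cfsg.Agent.H20.FrobTools
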