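import Mathlib
import Cfsg.Prelude.Def_OddOrderLocal
import Cfsg.Agent.Solvable.SZ
import Cfsg.Agent.S0205

/-!
# Hall's theorem for `π`-separable groups (`D_π`)

`HasD π G`: Hall `π`-subgroups exist and every `π`-subgroup is conjugate into any given one.
`dPi_step`: `D_π` for `G ⧸ N` gives `D_π` for `G`, if `N` is a `π`-group or a `π'`-group.
-/

set_option autoImplicit false

universe u

namespace Cfsg.Agent.H20.DPi

open Subgroup Pointwise

/-- a number all of whose prime divisors are in `π` -/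
def PiNum (π : Set ℕ) (m : ℕ) : Prop := ∀ q : ℕ, q.Prime → q ∣ m → q ∈ π

/-- `D_π` -/
def HasD (π : Set ℕ) (G : Type u) [Group G] : Prop :=
  (∃ K : Subgroup G, Cfsg.IsPiHall π K) ∧
    ∀ K U : Subgroup G, Cfsg.IsPiHall π K → PiNum π (Nat.card U) →
      ∃ g : G, U.map (MulAut.conj g).toMonoidHom ≤ K

theorem coprime_of_piNum {π : Set ℕ} {a b : ℕ} (ha : PiNum π a) (hb : ∀ q : ℕ, q.Prime → q ∣ b → q ∉ π) :
    a.Coprime b := by
  rw [Nat.coprime_iff_gcd_eq_one]
  by_contra h
  obtain ⟨q, hq, hd⟩ := Nat.exists_prime_and_dvd h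
  exact hb q hq (hd.trans (Nat.gcd_dvd_right _ _)) (ha q hq (hd.trans (Nat.gcd_dvd_left _ _)))

theorem isHall_map {G : Type u} [Group G] [Finite G] {π : Set ℕ} (N : Subgroup G) [N.Normal] {K : Subgroup G}
    (hK : Cfsg.IsPiHall π K) : Cfsg.IsPiHall π (K.map (QuotientGroup.mk' N)) := by
  refine ⟨fun p hp hd => hK.1 p hp (hd.trans (Subgroup.card_map_dvd K _)), fun p hp hpp hd => ?_⟩
  exact hK.2 p hp hpp (hd.trans (Subgroup.index_map_dvd K (QuotientGroup.mk'_surjective N)))

theorem map_conj_le_sup {G : Type u} [Group G] (N : Subgroup G) [N.Normal] {K U : Subgroup G} {g : G}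
    (h : (U.map (QuotientGroup.mk' N)).map (MulAut.conj (QuotientGroup.mk' N g)).toMonoidHom ≤
      K.map (QuotientGroup.mk' N)) : U.map (MulAut.conj g).toMonoidHom ≤ K ⊔ N := by
  rintro _ ⟨x, hx, rfl⟩
  have h1 : QuotientGroup.mk' N (g * x * g⁻¹) ∈ K.map (QuotientGroup.mk' N) := by
    apply h
    refine ⟨QuotientGroup.mk' N x, ⟨x, hx, rfl⟩, ?_⟩
    simp
  obtain ⟨k, hk, he⟩ := h1
  have h2 : k⁻¹ * (g * x * g⁻¹) ∈ N := by
    have : (QuotientGroup.mk' N) (k⁻¹ * (g * x * g⁻¹)) = 1 := by
      rw [map_mul, map_inv, he, inv_mul_cancel]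
    exact (QuotientGroup.eq_one_iff _).1 this
  have h3 : g * x * g⁻¹ = k * (k⁻¹ * (g * x * g⁻¹)) := by group
  change g * x * g⁻¹ ∈ K ⊔ N
  rw [h3]
  exact mul_mem (mem_sup_left hk) (mem_sup_right h2)

theorem piNum_mul {π : Set ℕ} {a b : ℕ} (ha : PiNum π a) (hb : PiNum π b) : PiNum π (a * b) := by
  intro q hq hd
  rcases (Nat.Prime.dvd_mul hq).1 hd with h | h
  exacts [ha q hq h, hb q hq h]

theorem card_sup_dvd {G : Type u} [Group G] [Finite G] (K N : Subgroup G) [N.Normal] :
    Nat.card ↥(K ⊔ N) ∣ Nat.card K * Nat.card N := by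
  have h1 : N.relIndex (K ⊔ N) ∣ Nat.card K := by
    rw [Subgroup.relIndex_sup_right]
    exact Subgroup.relIndex_dvd_card N K
  have h2 : Nat.card N * N.relIndex (K ⊔ N) = Nat.card ↥(K ⊔ N) :=
    by rw [← Subgroup.relIndex_bot_left N, Subgroup.relIndex_mul_relIndex _ _ _ bot_le le_sup_right,
      Subgroup.relIndex_bot_left]
  rw [← h2, mul_comm]
  exact Nat.mul_dvd_mul_right h1 _


theorem le_of_card_piNum {G : Type u} [Group G] [Finite G] {π : Set ℕ} {K M : Subgroup G}
    (hK : Cfsg.IsPiHall π K) (hKM : K ≤ M) (hM : PiNum π (Nat.card M)) : M = K := by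
  have h1 : K.relIndex M = 1 := by
    by_contra h
    obtain ⟨q, hq, hd⟩ := Nat.exists_prime_and_dvd h
    have h2 : q ∣ Nat.card M := hd.trans (Subgroup.relIndex_dvd_card K M)
    exact hK.2 q hq (hM q hq h2) (hd.trans (Subgroup.relIndex_dvd_index_of_le hKM))
  exact le_antisymm (Subgroup.relIndex_eq_one.1 h1) hKM

/-- conjugacy of complements: coprime orders -/
theorem conj_of_coprime {G : Type u} [Group G] [Finite G] (N : Subgroup G) [N.Normal] (U L : Subgroup G)
    (hcop : (Nat.card N).Coprime (Nat.card U)) (hU : N ⊔ U = ⊤) (hL : N ⊔ L = ⊤)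
    (hcop' : (Nat.card N).Coprime (Nat.card L)) : ∃ g : G, MulAut.conj g • U = L := by
  have key : ∀ V : Subgroup G, (Nat.card N).Coprime (Nat.card V) → N ⊔ V = ⊤ → Nat.card V = N.index := by
    intro V hV hNV
    have h1 : IsComplement' N V :=
      Subgroup.isComplement'_of_disjoint_and_mul_eq_univ (Subgroup.disjoint_of_coprime_natCard hV)
        (by rw [← Subgroup.normal_mul, hNV, Subgroup.coe_top])
    exact h1.symm.index_eq_card.symm
  have h1 := key U hcop hU
  have h2 := key L hcop' hL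
  refine Cfsg.Agent.Solvable.SZ.main (Nat.card G) G rfl N (h1 ▸ hcop) U L ?_ h1 h2
  rcases Nat.even_or_odd (Nat.card N) with he | ho
  · right
    apply Cfsg.Agent.S0205.result
    rw [← Nat.not_even_iff_odd]
    intro h3
    have h4 : 2 ∣ Nat.gcd (Nat.card N) (Nat.card U) := Nat.dvd_gcd (even_iff_two_dvd.1 he) (even_iff_two_dvd.1 h3)
    rw [hcop] at h4
    omega
  · left
    exact Cfsg.Agent.S0205.result ho


/-- Conjugacy of complements of `N` in a subgroup `M` containing the normal subgroup `N`. -/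
theorem conj_of_coprime_in {G : Type u} [Group G] [Finite G] (N : Subgroup G) [N.Normal] (U L : Subgroup G)
    (hcop : (Nat.card N).Coprime (Nat.card U)) (hUL : N ⊔ U = N ⊔ L)
    (hcop' : (Nat.card N).Coprime (Nat.card L)) : ∃ g : G, U.map (MulAut.conj g).toMonoidHom = L := by
  set M := N ⊔ U with hM
  have hNM : N ≤ M := le_sup_left
  have hUM : U ≤ M := le_sup_right
  have hLM : L ≤ M := hUL ▸ le_sup_right
  have e1 : ∀ V : Subgroup G, V ≤ M → Nat.card (V.subgroupOf M) = Nat.card V :=
    fun V hV => Nat.card_congr (Subgroup.subgroupOfEquivOfLe hV).toEquiv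
  have e2 : ∀ V : Subgroup G, V ≤ M → N ⊔ V = M → N.subgroupOf M ⊔ V.subgroupOf M = ⊤ := by
    intro V hV h
    rw [← Subgroup.subgroupOf_sup hNM hV, h, Subgroup.subgroupOf_self]
  obtain ⟨g, hg⟩ := conj_of_coprime (N.subgroupOf M) (U.subgroupOf M) (L.subgroupOf M)
    (by rw [e1 _ hNM, e1 _ hUM]; exact hcop) (e2 U hUM rfl) (e2 L hLM hUL.symm)
    (by rw [e1 _ hNM, e1 _ hLM]; exact hcop')
  refine ⟨g, ?_⟩
  have h1 : ((MulAut.conj g • U.subgroupOf M : Subgroup M)).map M.subtype = U.map (MulAut.conj (g : G)).toMonoidHom := by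
    ext x
    constructor
    · rintro ⟨_, ⟨y, hy, rfl⟩, rfl⟩
      exact ⟨y, hy, rfl⟩
    · rintro ⟨y, hy, rfl⟩
      exact ⟨g * ⟨y, hUM hy⟩ * g⁻¹, ⟨⟨y, hUM hy⟩, hy, rfl⟩, rfl⟩
  rw [← h1, hg, Subgroup.map_subgroupOf_eq_of_le hLM]

theorem conj_map_map {G : Type u} [Group G] (U : Subgroup G) (a b : G) :
    (U.map (MulAut.conj a).toMonoidHom).map (MulAut.conj b).toMonoidHom =
      U.map (MulAut.conj (b * a)).toMonoidHom := by
  rw [Subgroup.map_map]
  congr 1
  ext x
  simp [mul_assoc]

theorem hasD_step {G : Type u} [Group G] [Finite G] {π : Set ℕ} (N : Subgroup G) [N.Normal]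
    (hN : PiNum π (Nat.card N) ∨ ∀ q : ℕ, q.Prime → q ∣ Nat.card N → q ∉ π) (h : HasD π (G ⧸ N)) :
    HasD π G := by
  obtain ⟨⟨Kb, hKb⟩, hconj⟩ := h
  refine ⟨?_, ?_⟩
  · set M := Kb.comap (QuotientGroup.mk' N) with hM
    have hNM : N ≤ M := by
      intro x hx
      rw [hM, Subgroup.mem_comap]
      rw [(QuotientGroup.eq_one_iff x).2 hx |> fun h => (show QuotientGroup.mk' N x = 1 from h)]
      exact one_mem _
    have hMcard : Nat.card M = Nat.card N * Nat.card Kb := by
      have h1 : Nat.card Kb = N.relIndex M := by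
        have := Subgroup.relIndex_ker (K := M) (QuotientGroup.mk' N)
        rw [QuotientGroup.ker_mk'] at this
        rw [this, hM, Subgroup.map_comap_eq_self_of_surjective (QuotientGroup.mk'_surjective N)]
      rw [h1, ← Subgroup.relIndex_bot_left N, Subgroup.relIndex_mul_relIndex _ _ _ bot_le hNM,
        Subgroup.relIndex_bot_left]
    have hMind : M.index = Kb.index := Subgroup.index_comap_of_surjective Kb (QuotientGroup.mk'_surjective N)
    rcases hN with hN | hN
    · refine ⟨M, ?_, ?_⟩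
      · rw [hMcard]; exact piNum_mul hN hKb.1
      · rw [hMind]; exact hKb.2
    · have hcop : (Nat.card Kb).Coprime (Nat.card N) := coprime_of_piNum hKb.1 hN
      have hc : Nat.card (N.subgroupOf M) = Nat.card N := Nat.card_congr (Subgroup.subgroupOfEquivOfLe hNM).toEquiv
      have hi : (N.subgroupOf M).index = Nat.card Kb := by
        have h1 := Subgroup.card_mul_index (N.subgroupOf M)
        rw [hc, hMcard] at h1
        exact Nat.eq_of_mul_eq_mul_left Nat.card_pos h1
      obtain ⟨K, hK⟩ := Subgroup.exists_right_complement'_of_coprime (N := N.subgroupOf M)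
        (by rw [hc, hi]; exact hcop.symm)
      have hKc : Nat.card K = Nat.card Kb := by rw [← hi]; exact hK.symm.index_eq_card.symm
      have hKc' : Nat.card (K.map M.subtype) = Nat.card Kb := by
        rw [← hKc]; exact (Nat.card_congr (K.equivMapOfInjective _ M.subtype_injective).toEquiv).symm
      refine ⟨K.map M.subtype, ?_, ?_⟩
      · rw [hKc']; exact hKb.1
      · intro p hp hpp hd
        have h1 : (K.map M.subtype).index = Nat.card N * Kb.index := by
          have h2 := Subgroup.card_mul_index (K.map M.subtype)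
          have h3 := Subgroup.card_mul_index M
          rw [hKc'] at h2
          rw [hMcard, hMind, ← h2] at h3
          have h4 : Nat.card Kb * (Nat.card N * Kb.index) = Nat.card Kb * (K.map M.subtype).index := by
            rw [← h3]; ring
          exact (Nat.eq_of_mul_eq_mul_left Nat.card_pos h4).symm
        rw [h1] at hd
        rcases (Nat.Prime.dvd_mul hp).1 hd with h | h
        · exact hN p hp h hpp
        · exact hKb.2 p hp hpp h
  · intro K U hK hU
    obtain ⟨gb, hgb⟩ := hconj (K.map (QuotientGroup.mk' N)) (U.map (QuotientGroup.mk' N)) (isHall_map N hK)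
      (fun q hq hd => hU q hq (hd.trans (Subgroup.card_map_dvd U _)))
    obtain ⟨g, rfl⟩ := QuotientGroup.mk'_surjective N gb
    have h1 := map_conj_le_sup N hgb
    set V := U.map (MulAut.conj g).toMonoidHom with hV
    have hVc : Nat.card V = Nat.card U :=
      (Nat.card_congr (U.equivMapOfInjective _ (MulAut.conj g).injective).toEquiv).symm
    rcases hN with hN | hN
    · have h2 : K ⊔ N = K := le_of_card_piNum hK le_sup_left
        (fun q hq hd => piNum_mul hK.1 hN q hq (hd.trans (card_sup_dvd K N)))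
      exact ⟨g, by rw [← h2]; exact h1⟩
    · -- `L = (N ⊔ V) ⊓ K`
      have hL : N ⊔ V = N ⊔ ((N ⊔ V) ⊓ K) := by
        apply le_antisymm
        · intro x hx
          have hx1 : x ∈ K ⊔ N := by
            have : N ⊔ V ≤ K ⊔ N := sup_le le_sup_right h1
            exact this hx
          rw [← SetLike.mem_coe, Subgroup.mul_normal] at hx1
          obtain ⟨k, hk, n, hn, rfl⟩ := hx1
          have hk' : k ∈ N ⊔ V := by
            have h3 : k = (k * n) * n⁻¹ := by group
            rw [h3]
            exact mul_mem hx (mem_sup_left (N.inv_mem hn))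
          exact mul_mem (mem_sup_right ⟨hk', hk⟩) (mem_sup_left hn)
        · exact sup_le le_sup_left inf_le_left
      obtain ⟨h, hh⟩ := conj_of_coprime_in N V ((N ⊔ V) ⊓ K)
        (by rw [hVc]; exact (coprime_of_piNum hU hN).symm) hL
        ((coprime_of_piNum (fun q hq hd => hK.1 q hq (hd.trans (Subgroup.card_dvd_of_le inf_le_right))) hN).symm)
      refine ⟨h * g, ?_⟩
      rw [← conj_map_map, ← hV, hh]
      exact inf_le_right

end Cfsg.Agent.H20.DPi
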