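import Mathlib
import Cfsg.Agent.H20.FrobTools

/-!
# The alternating group of degree 7 has only the trivial solutions
-/

set_option autoImplicit false

universe u

namespace Cfsg.Agent.H20.FrobASeven

open Subgroup Cfsg.Agent.H20.FrobReduce Cfsg.Agent.H20.FrobTools

theorem card_aseven : Nat.card (alternatingGroup (Fin 7)) = 2520 := by
  have h := nat_card_alternatingGroup (α := Fin 7)
  rw [Nat.card_fin] at h
  rw [h]
  rfl

theorem cycleType_seven {x : Equiv.Perm (Fin 7)} (hx : orderOf x = 7) : x.cycleType = {7} := by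
  have hp : Nat.Prime 7 := by norm_num
  have h1 : ∀ n ∈ x.cycleType, n = 7 := by
    intro n hn
    have h2 : n ∣ 7 := hx ▸ Equiv.Perm.dvd_of_mem_cycleType hn
    have h3 := Equiv.Perm.two_le_of_mem_cycleType hn
    rcases (Nat.dvd_prime hp).1 h2 with h | h
    · omega
    · exact h
  have h2 := Multiset.eq_replicate_card.2 h1
  have h3 := x.sum_cycleType_le
  rw [h2, Multiset.sum_replicate, Fintype.card_fin, smul_eq_mul] at h3
  have h4 : Multiset.card x.cycleType ≤ 1 := by omega
  have h5 : Multiset.card x.cycleType ≠ 0 := by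
    intro h
    rw [Multiset.card_eq_zero, Equiv.Perm.cycleType_eq_zero] at h
    rw [h, orderOf_one] at hx
    omega
  have h6 : Multiset.card x.cycleType = 1 := by omega
  rw [h2, h6, Multiset.replicate_one]

theorem card_centralizer {x : alternatingGroup (Fin 7)} (hx : orderOf x = 7) :
    Nat.card (centralizer ({x} : Set (alternatingGroup (Fin 7)))) = 7 := by
  have h0 : orderOf (x : Equiv.Perm (Fin 7)) = 7 := by rw [orderOf_coe, hx]
  have h1 := Equiv.Perm.nat_card_centralizer (x : Equiv.Perm (Fin 7))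
  rw [cycleType_seven h0] at h1
  simp at h1
  have h2 : Nat.card (centralizer ({x} : Set (alternatingGroup (Fin 7)))) ≤
      Nat.card (centralizer ({(x : Equiv.Perm (Fin 7))} : Set (Equiv.Perm (Fin 7)))) := by
    refine Nat.card_le_card_of_injective (fun y => ⟨(y.1 : Equiv.Perm (Fin 7)), ?_⟩) ?_
    · rw [mem_cent]
      exact congrArg Subtype.val (mem_cent.1 y.2)
    · intro y z h
      have h' : ((y.1 : alternatingGroup (Fin 7)) : Equiv.Perm (Fin 7)) = z.1 := congrArg
        (fun w : centralizer ({(x : Equiv.Perm (Fin 7))} : Set (Equiv.Perm (Fin 7))) => (w : Equiv.Perm (Fin 7))) h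
      exact Subtype.ext (Subtype.ext h')
  rw [h1] at h2
  have h3 : 7 ∣ Nat.card (centralizer ({x} : Set (alternatingGroup (Fin 7)))) := by
    have h4 : orderOf x ∣ Nat.card (centralizer ({x} : Set (alternatingGroup (Fin 7)))) :=
      orderOf_dvd_natCard _ (mem_cent.2 rfl)
    rwa [hx] at h4
  exact le_antisymm h2 (Nat.le_of_dvd Nat.card_pos h3)

theorem orderOf_ne (x : alternatingGroup (Fin 7)) : orderOf x ≠ 3 ^ (1 + 1) := by
  intro hx
  have h0 : orderOf (x : Equiv.Perm (Fin 7)) = 9 := by rw [orderOf_coe, hx]; norm_num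
  have h1 : ∀ n ∈ (x : Equiv.Perm (Fin 7)).cycleType, n ∣ 3 := by
    intro n hn
    have h2 : n ∣ 9 := h0 ▸ Equiv.Perm.dvd_of_mem_cycleType hn
    have h3 : n ≤ 7 := by
      have h4 := Equiv.Perm.le_card_support_of_mem_cycleType hn
      have h5 := Finset.card_le_univ (x : Equiv.Perm (Fin 7)).support
      rw [Fintype.card_fin] at h5
      omega
    interval_cases n <;> omega
  have h2 := Multiset.lcm_dvd.2 h1
  rw [Equiv.Perm.lcm_cycleType, h0] at h2
  omega

theorem divs : ∀ n ∈ Finset.range 2521, n ∣ 2520 → ¬ 7 ∣ n → n % 7 = 1 →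
    n = 1 ∨ n = 8 ∨ n = 15 ∨ n = 36 ∨ n = 120 := by decide +kernel

theorem tr {S : Type u} [Group S] [Finite S] [IsSimpleGroup S] (hna : ¬ ∀ a b : S, a * b = b * a)
    (e : S ≃* alternatingGroup (Fin 7)) : Tr S := by
  have hcard : Nat.card S = 2520 := by rw [Nat.card_congr e.toEquiv, card_aseven]
  have h2 : ∀ x : S, orderOf x ≠ 2 ^ (2 + 1) := not_cyclic_two hna (by norm_num) (by rw [hcard]; norm_num)
  have h3 : ∀ x : S, orderOf x ≠ 3 ^ (1 + 1) := fun x => by
    rw [← MulEquiv.orderOf_eq e x]
    exact orderOf_ne _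
  have hp : Nat.Prime 7 := by norm_num
  have : Fact (Nat.Prime 7) := ⟨hp⟩
  obtain ⟨x, hx⟩ := exists_prime_orderOf_dvd_card' (G := S) 7 (by rw [hcard]; norm_num)
  have hC : Nat.card (centralizer ({x} : Set S)) = 7 := by
    rw [card_centralizer_congr e]
    exact card_centralizer (by rw [MulEquiv.orderOf_eq, hx])
  obtain ⟨w, i, hw, hi, hN, hwi⟩ := exists_normalizer hp hx hC (by rw [hcard]; norm_num)
  have hw3 : w = 3 := by
    rw [hcard] at hwi
    have h4 : w ≤ 6 := Nat.le_of_dvd (by norm_num) hw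
    have h5 : i % 7 = 1 := hi
    interval_cases w <;> omega
  subst hw3
  intro n hn hc
  obtain ⟨k, hk⟩ := hn
  by_cases h7 : 7 ∣ n
  · right
    have hk3 := k_le hp hx hN (by norm_num) hk.symm hc h7
    rw [hcard] at hk ⊢
    interval_cases k
    · omega
    · omega
    · exfalso
      obtain rfl : n = 1260 := by omega
      exact jump (e := 2) Nat.prime_two (by norm_num) h2 (by rw [hcard]) hc
    · exfalso
      obtain rfl : n = 840 := by omega
      exact jump (e := 1) Nat.prime_three (by norm_num) h3 (by rw [hcard]) hc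
  · left
    have h8 := modEq_one (n := n) hp hx hC h7
    rw [hc] at h8
    rw [hcard] at hk
    have hnle : n ≤ 2520 := Nat.le_of_dvd (by norm_num) ⟨k, hk⟩
    rcases divs n (Finset.mem_range.2 (by omega)) ⟨k, hk⟩ h7 h8 with h | rfl | rfl | rfl | rfl
    · exact h
    · have := prime_pow hna (a := 3) Nat.prime_two (by rw [hcard]; norm_num) hc
      omega
    · exact absurd hc (jump (e := 1) Nat.prime_three (by norm_num) h3 (by rw [hcard]; norm_num))
    · exact absurd hc (jump (e := 2) Nat.prime_two (by norm_num) h2 (by rw [hcard]; norm_num))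
    · exact absurd hc (jump (e := 1) Nat.prime_three (by norm_num) h3 (by rw [hcard]; norm_num))

end Cfsg.Agent.H20.FrobASeven
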