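import Mathlib
import Cfsg.Agent.S0487
import Cfsg.Agent.StrongEmb.Strong
import Cfsg.Agent.MinSimple.TheoremT
import Cfsg.Agent.Mrg.Omega.TitsIso.Main

/-!
# The simple N-groups, up to isomorphism

`main`: the form of S0487 with the Suzuki groups and the Tits group given as groups (and not only by their orders).
-/

set_option autoImplicit false

universe u

namespace Cfsg.Agent.H20.NGroupIso

open Cfsg Cfsg.Agent.Classification.NGroupExclude

/-- **Simple N-groups.** -/
theorem main {G : Type u} [Group G] [Finite G] [IsSimpleGroup G] (hG : ¬ IsMulCommutative G) (hN : Cfsg.IsNGroup G) :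
    (∃ (F : Type) (_ : Field F) (_ : Fintype F), 4 ≤ Fintype.card F ∧
        Nonempty (G ≃* Matrix.ProjectiveSpecialLinearGroup (Fin 2) F)) ∨
      Cfsg.Lie.IsoSuzuki G ∨
      (∃ (F : Type) (_ : Field F) (_ : Fintype F), Fintype.card F = 3 ∧
        Nonempty (G ≃* Matrix.ProjectiveSpecialLinearGroup (Fin 3) F)) ∨
      (∃ (F : Type) (_ : Field F) (_ : Fintype F), Fintype.card F = 9 ∧ Nonempty (G ≃* Cfsg.PSU 3 F 3)) ∨
      Nonempty (G ≃* alternatingGroup (Fin 7)) ∨ Cfsg.IsM11 G ∨
      (Cfsg.Lie.IsoTits G ∧ ∃ V : Subgroup G, Nat.card V = 32 ∧ ∀ u ∈ V, u * u = 1) := by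
  have hloc := S0487.isSolvable_of_isTwoLocal hN
  have hna : ∃ a b : G, a * b ≠ b * a := by
    by_contra hcon
    push Not at hcon
    exact hG ⟨⟨hcon⟩⟩
  -- the order is even
  have heven : Even (Nat.card G) := by
    rw [← Nat.not_odd_iff_even]
    intro hodd
    have hs := S0205.result hodd
    obtain ⟨a, b, hab⟩ := hna
    exact hab (IsSimpleGroup.comm_iff_isSolvable.mpr hs a b)
  have hO2 : ∀ N : Subgroup G, N.Normal → N.index ≠ 2 := by
    intro N hNn hi
    rcases hNn.eq_bot_or_eq_top with rfl | rfl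
    · rw [Subgroup.index_bot] at hi
      have : IsCyclic G := isCyclic_of_prime_card (p := 2) (hp := ⟨Nat.prime_two⟩) hi
      obtain ⟨a, b, hab⟩ := hna
      exact hab ((IsCyclic.isMulCommutative (α := G)).is_comm.comm a b)
    · rw [Subgroup.index_top] at hi
      omega
  have hO : oddCore G = ⊥ := by
    have hn : (oddCore G).Normal := Lib.Cores.pPrimeCore_normal 2
    rcases hn.eq_bot_or_eq_top with h | h
    · exact h
    · exfalso
      have hc : (Nat.card (oddCore G)).Coprime 2 := Lib.Cores.pPrimeCore_coprime (G := G) 2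
      rw [h, Subgroup.card_top] at hc
      exact (Nat.not_even_iff_odd.2 (Nat.coprime_two_right.1 hc)) heven
  have key : PRankLE 2 2 G →
    (∃ (F : Type) (_ : Field F) (_ : Fintype F), 4 ≤ Fintype.card F ∧
        Nonempty (G ≃* Matrix.ProjectiveSpecialLinearGroup (Fin 2) F)) ∨
      Cfsg.Lie.IsoSuzuki G ∨
      (∃ (F : Type) (_ : Field F) (_ : Fintype F), Fintype.card F = 3 ∧
        Nonempty (G ≃* Matrix.ProjectiveSpecialLinearGroup (Fin 3) F)) ∨
      (∃ (F : Type) (_ : Field F) (_ : Fintype F), Fintype.card F = 9 ∧ Nonempty (G ≃* Cfsg.PSU 3 F 3)) ∨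
      Nonempty (G ≃* alternatingGroup (Fin 7)) ∨ Cfsg.IsM11 G ∨
      (Cfsg.Lie.IsoTits G ∧ ∃ V : Subgroup G, Nat.card V = 32 ∧ ∀ u ∈ V, u * u = 1) := by
    intro h2
    rcases S0487.rank_two hG hN h2 with h | h | h | h | h
    · exact Or.inl h
    · exact Or.inr (Or.inr (Or.inl h))
    · exact Or.inr (Or.inr (Or.inr (Or.inl h)))
    · exact Or.inr (Or.inr (Or.inr (Or.inr (Or.inl h))))
    · exact Or.inr (Or.inr (Or.inr (Or.inr (Or.inr (Or.inl h)))))
  rcases S1296.result heven hO2 hO with h2 | hcomp | hchar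
  · exact key h2
  · exact absurd hcomp (S0487.not_isComponentType hloc)
  · by_cases h3 : PRankLE 2 2 G
    · exact key h3
    · by_cases hse : ∃ H : Subgroup G, IsStronglyEmbedded H
      · obtain ⟨H, hH⟩ := hse
        rcases StrongEmb.Strong.result hna H hH with ⟨F, _, _, ⟨n, hn, hF⟩, he⟩ | h | ⟨F, _, _, n, hn, hF, ⟨e⟩⟩
        · refine Or.inl ⟨F, inferInstance, inferInstance, ?_, he⟩
          rw [hF]
          calc 4 = 2 ^ 2 := rfl
            _ ≤ 2 ^ n := Nat.pow_le_pow_right (by norm_num) hn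
        · exact Or.inr (Or.inl h)
        · refine absurd (isNGroup_congr e hN) (not_isNGroup_psu_three hF ?_)
          calc 4 = 2 ^ 2 := rfl
            _ ≤ 2 ^ n := Nat.pow_le_pow_right (by norm_num) hn
      · push Not at hse
        have hcore := MinSimple.CoreMain.core_of_simple hG hloc hchar h3 hse
        obtain ⟨z, p, hf⟩ := MinSimple.TheoremT.exists_finHyp hcore
        obtain ⟨V, hV, hV2, -⟩ := MinSimple.TheoremT.exists_elementary hcore
        exact Or.inr (Or.inr (Or.inr (Or.inr (Or.inr (Or.inr ⟨Omega.TitsIso.MainIso.isoTits hf hchar, V, hV, hV2⟩)))))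

end Cfsg.Agent.H20.NGroupIso
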